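import Groth.Agent.Lib.Seesaw26.Scheme
import Groth.Agent.Lib.OmegaFree.Basic
import Groth.Agent.Lib.CurveMult.TwistHom
import Groth.Agent.Lib.Ref1.Tensor
import Groth.Agent.Lib.QCoh.SupportExact
import Groth.Agent.Lib.Ref1.Frame
import Groth.Agent.Lib.HomSh.Coherent
import Mathlib.RingTheory.PicardGroup

/-!
# A finitely presented module with a tensor inverse is invertible
-/

set_option autoImplicit false
set_option linter.style.haveILetI false
set_option maxHeartbeats 1000000
set_option backward.isDefEq.respectTransparency.types false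

universe u

open CategoryTheory CategoryTheory.Limits AlgebraicGeometry Opposite TopologicalSpace
open scoped TensorProduct

noncomputable section

namespace GrothLib.GabRos20

/-- A finitely presented module with a tensor inverse is invertible. -/
theorem isInvertible_of_tensor_iso_structure {X : Scheme.{u}} {N L : X.Modules}
    (e : CohB1.tensorMod N L ≅ Coh.structureModule X) (hL : CohB1.IsFP L) : PicF.IsInvertible L := by
  refine InvExt.isInvertible_of_gens fun x => ?_
  let R := X.presheaf.stalk x
  obtain ⟨b⟩ := OmegaFree.exists_basis_stalk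
    ((Seesaw26.isInvertible_iff_rank_one (Coh.structureModule X)).2 Euler.isInvertible_structure) x
  let e1 : (CohB1.tensorMod N L).presheaf.stalk x ≃ₗ[R] (Coh.structureModule X).presheaf.stalk x :=
    LinearEquiv.ofBijective (QCoh.stalkLin e.hom x)
      ⟨QCoh.stalkLin_injective e.hom x, QCoh.stalkLin_surjective e.hom x⟩
  let e2 : (N.presheaf.stalk x ⊗[R] L.presheaf.stalk x) ≃ₗ[R] R :=
    (Ref1.tensorStalk N L x).symm ≪≫ₗ e1 ≪≫ₗ b.equivFun ≪≫ₗ LinearEquiv.funUnique (Fin 1) R R
  haveI : Module.Invertible R (L.presheaf.stalk x) := Module.Invertible.right e2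
  haveI : Module.Free R (L.presheaf.stalk x) := inferInstance
  obtain ⟨U, n, f, hx, hf⟩ := Ref1.exists_frame_of_free (HomSh.hasRel_of_isFP hL) (x := x) inferInstance
  obtain ⟨c⟩ := Euler.stalk_basis_of_frame hf hx
  have hn : n = 1 := by
    have h1 := Module.Invertible.finrank_eq_one R (L.presheaf.stalk x)
    rwa [Module.finrank_eq_card_basis c, Fintype.card_fin] at h1
  subst hn
  exact ⟨U, f 0, hx, (InvExt.isGen_iff_isFrame f).1 hf⟩

end GrothLib.GabRos20
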