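import Groth.Agent.Lib.FinCov.Bilinear
import Groth.Agent.Lib.AffHom.Basic

/-!
# Pairings given on affine opens
-/

set_option autoImplicit false
set_option linter.style.haveILetI false
set_option maxHeartbeats 1000000
set_option backward.isDefEq.respectTransparency.types false

universe u

open CategoryTheory AlgebraicGeometry Opposite TopologicalSpace

noncomputable section

namespace GrothLib.GabRos20

variable {X : Scheme.{u}}

theorem res_res (M : X.Modules) {U V W : X.Opens} (h₁ : V ≤ U) (h₂ : W ≤ V) (m : Γ(M, U)) :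
    M.presheaf.map (homOfLE h₂).op (M.presheaf.map (homOfLE h₁).op m) = M.presheaf.map (homOfLE (h₂.trans h₁)).op m := by
  rw [← ConcreteCategory.comp_apply, ← Functor.map_comp]
  rfl

theorem res_self (M : X.Modules) {U : X.Opens} (h : U ≤ U) (m : Γ(M, U)) : M.presheaf.map (homOfLE h).op m = m :=
  congr($(M.presheaf.map_id (op U)) m)

theorem eq_of_affine (P : X.Modules) {U : X.Opens} {s t : Γ(P, U)}
    (h : ∀ (W : X.affineOpens) (k : W.1 ≤ U), P.presheaf.map (homOfLE k).op s = P.presheaf.map (homOfLE k).op t) :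
    s = t :=
  TopCat.Sheaf.eq_of_locally_eq' ⟨P.presheaf, P.isSheaf⟩ (fun W : {W : X.affineOpens // W.1 ≤ U} => W.1.1) U
    (fun W => homOfLE W.2) (fun x hx => by
      obtain ⟨W, hW, hxW, hWU⟩ := exists_isAffineOpen_mem_and_subset (x := x) (U := U) hx
      exact Opens.mem_iSup.2 ⟨⟨⟨W, hW⟩, hWU⟩, hxW⟩) s t fun W => h W.1 W.2

theorem exists_pairing_of_affine {M N P : X.Modules} (f : ∀ W : X.affineOpens, Γ(M, W.1) → Γ(N, W.1) → Γ(P, W.1))
    (hal : ∀ W m m' n, f W (m + m') n = f W m n + f W m' n)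
    (hsl : ∀ (W : X.affineOpens) (r : Γ(X, W.1)) m n, f W (r • m) n = r • f W m n)
    (har : ∀ W m n n', f W m (n + n') = f W m n + f W m n')
    (hsr : ∀ (W : X.affineOpens) (r : Γ(X, W.1)) m n, f W m (r • n) = r • f W m n)
    (hres : ∀ (W W' : X.affineOpens) (h : W'.1 ≤ W.1) m n, P.presheaf.map (homOfLE h).op (f W m n) =
      f W' (M.presheaf.map (homOfLE h).op m) (N.presheaf.map (homOfLE h).op n)) :
    ∃ b : FinCov.Pairing M N P, ∀ (W : X.affineOpens) m n, b.f W.1 m n = f W m n := by
  have hex : ∀ (U : X.Opens) (m : Γ(M, U)) (n : Γ(N, U)), ∃ t : Γ(P, U), ∀ (W : X.affineOpens) (k : W.1 ≤ U),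
      P.presheaf.map (homOfLE k).op t = f W (M.presheaf.map (homOfLE k).op m) (N.presheaf.map (homOfLE k).op n) := by
    intro U m n
    let ι := {W : X.affineOpens // W.1 ≤ U}
    obtain ⟨t, ht, -⟩ := TopCat.Sheaf.existsUnique_gluing' ⟨P.presheaf, P.isSheaf⟩ (fun W : ι => W.1.1) U
      (fun W => homOfLE W.2) (fun x hx => by
        obtain ⟨W, hW, hxW, hWU⟩ := exists_isAffineOpen_mem_and_subset (x := x) (U := U) hx
        exact Opens.mem_iSup.2 ⟨⟨⟨W, hW⟩, hWU⟩, hxW⟩)
      (fun W : ι => f W.1 (M.presheaf.map (homOfLE W.2).op m) (N.presheaf.map (homOfLE W.2).op n)) (fun W₁ W₂ =>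
        eq_of_affine P fun W k => by
          show P.presheaf.map (homOfLE k).op (P.presheaf.map (homOfLE inf_le_left).op _) =
            P.presheaf.map (homOfLE k).op (P.presheaf.map (homOfLE inf_le_right).op _)
          rw [res_res, res_res, hres _ W, hres _ W, res_res, res_res, res_res, res_res])
    exact ⟨t, fun W k => ht ⟨W, k⟩⟩
  choose g hg using hex
  refine ⟨⟨g, fun U m m' n => eq_of_affine P fun W k => ?_, fun U r m n => eq_of_affine P fun W k => ?_,
    fun U m n n' => eq_of_affine P fun W k => ?_, fun U r m n => eq_of_affine P fun W k => ?_,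
    fun {U V} i m n => eq_of_affine P fun W k => ?_⟩, fun W m n => ?_⟩
  · simp only [map_add, hg, hal]
  · simp only [Scheme.Modules.map_smul, hg, hsl]
  · simp only [map_add, hg, har]
  · simp only [Scheme.Modules.map_smul, hg, hsr]
  · rw [Subsingleton.elim i (homOfLE i.le), res_res, hg, hg, res_res, res_res]
  · have h := hg W.1 m n W le_rfl
    rwa [res_self, res_self, res_self] at h

end GrothLib.GabRos20
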