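import Groth.Agent.Lib.GabRos20.Closed
import Groth.Agent.Lib.GabRos20.Pairing
import Groth.Agent.Lib.FunMor20.EW
import Groth.Agent.Lib.OX.ProjLocal
import Groth.Agent.Lib.ProjFormula.Map

/-!
# Exact functors compatible with supports and scalars are tensor products
-/

set_option autoImplicit false
set_option linter.style.haveILetI false
set_option linter.style.longLine false
set_option linter.unusedSectionVars false
set_option maxHeartbeats 2000000
set_option backward.isDefEq.respectTransparency.types false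

universe u

open CategoryTheory CategoryTheory.Limits AlgebraicGeometry Opposite TopologicalSpace

noncomputable section

namespace GrothLib.GabRos20

open FunMor20 (qO freeQ freeQι isColimitFreeQ)

variable {X : Scheme.{u}} [QuasiSeparatedSpace X] (H : QCohCat.QCoh X ⥤ X.Modules)
  [PreservesFiniteLimits H] [PreservesFiniteColimits H] [∀ J : Type u, PreservesColimitsOfShape (Discrete J) H]

/-- Compatibility with supports and scalars. -/
structure Compat : Prop where
  off : ∀ (U : X.Opens), IsCompact (U : Set X) → ∀ E, Off U E → ∀ W : X.Opens, W ≤ U → Subsingleton Γ(H.obj E, W)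
  acts : ∀ (U : X.Opens), IsCompact (U : Set X) → ∀ M, Closed U M → ∀ (s : Γ(X, U)) (e : M ⟶ M), ActsBy U s e →
    ∀ (V : X.Opens) (h : V ≤ U) (m : Γ(H.obj M, V)), (H.map e).app V m = X.presheaf.map (homOfLE h).op s • m

variable {H} (hH : Compat H)

theorem bijective_app_of_isIso_restrict {A B : X.Modules} (f : A ⟶ B) {U : X.Opens}
    [IsIso ((Scheme.Modules.restrictFunctor U.ι).map f)] {W : X.Opens} (hW : W ≤ U) : Function.Bijective (f.app W) := by
  have h : Function.Bijective (f.app (U.ι ''ᵁ U.ι ⁻¹ᵁ W)) :=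
    ConcreteCategory.bijective_of_isIso (((Scheme.Modules.restrictFunctor U.ι).map f).app (U.ι ⁻¹ᵁ W))
  rwa [image_preimage_eq_of_le hW] at h

theorem off_of_isZero {U : X.Opens} {E : QCohCat.QCoh X} (h : IsZero E) : Off U E := by
  haveI : PreservesFiniteColimits (Scheme.Modules.restrictFunctor U.ι) := by
    haveI : PreservesColimitsOfSize.{0, 0} (Scheme.Modules.restrictFunctor U.ι) :=
      (Scheme.Modules.restrictAdjunction U.ι).leftAdjoint_preservesColimits
    exact PreservesColimitsOfSize.preservesFiniteColimits.{0, 0} _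
  exact off_of_isZero_restrict ((Scheme.Modules.restrictFunctor U.ι).map_isZero ((QCohCat.isQCoh X).ι.map_isZero h))

include hH

theorem Compat.isIso_restrict_map {U : X.Opens} (hU : IsCompact (U : Set X)) {A B : QCohCat.QCoh X} (f : A ⟶ B)
    (hk : Off U (kernel f)) (hc : Off U (cokernel f)) : IsIso ((Scheme.Modules.restrictFunctor U.ι).map (H.map f)) := by
  let R := Scheme.Modules.restrictFunctor U.ι
  let G := H ⋙ R
  haveI : PreservesFiniteLimits R := by
    haveI : PreservesLimitsOfSize.{0, 0} R := (CxOX.extZeroAdj U.ι).rightAdjoint_preservesLimits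
    exact PreservesLimitsOfSize.preservesFiniteLimits.{0, 0} _
  haveI : PreservesFiniteColimits R := by
    haveI : PreservesColimitsOfSize.{0, 0} R := (Scheme.Modules.restrictAdjunction U.ι).leftAdjoint_preservesColimits
    exact PreservesColimitsOfSize.preservesFiniteColimits.{0, 0} _
  haveI : PreservesFiniteLimits G := comp_preservesFiniteLimits _ R
  haveI : PreservesFiniteColimits G := comp_preservesFiniteColimits _ R
  have hz : ∀ E, Off U E → IsZero (G.obj E) := fun E hE => by
    rw [IsZero.iff_id_eq_zero]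
    refine AffHom.hom_ext fun W m => ?_
    have : Subsingleton Γ(H.obj E, U.ι ''ᵁ W.1) := hH.off U hU E hE _ (U.ι_image_le W.1)
    exact @Subsingleton.elim _ this _ _
  haveI : Mono (G.map f) := Preadditive.mono_of_kernel_zero
    (((hz _ hk).of_iso (PreservesKernel.iso G f).symm).eq_of_src _ _)
  haveI : Epi (G.map f) := Preadditive.epi_of_cokernel_zero
    (((hz _ hc).of_iso (PreservesCokernel.iso G f).symm).eq_of_tgt _ _)
  exact isIso_of_mono_of_epi (G.map f)

theorem Compat.bijective_map_locUnit {W : X.Opens} (hW : IsCompact (W : Set X)) (M : QCohCat.QCoh X) :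
    Function.Bijective ((H.map (locUnit hW M)).app W) := by
  haveI := hH.isIso_restrict_map hW (locUnit hW M) (off_kernel_locUnit hW M).1 (off_kernel_locUnit hW M).2
  exact bijective_app_of_isIso_restrict _ le_rfl

omit hH

theorem existsUnique_hom_one {W : X.Opens} (hW : IsCompact (W : Set X)) {N : QCohCat.QCoh X} (hN : Closed W N)
    (x : Γ(N.obj, W)) : ∃! g : qO X ⟶ N, g.hom.app W (FinCov.one X W) = x := by
  have hb := hN.bijective_res hW (W := W) rfl
  obtain ⟨x₀, hx₀⟩ := hb.2 x
  refine ⟨ObjectProperty.homMk (FinCov.homOfSection x₀), (FinCov.homOfSection_one x₀ W).trans hx₀, fun g hg => ?_⟩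
  apply ObjectProperty.hom_ext
  refine FunMor20.homOfSection_unique (hb.1 ?_)
  refine (map_app_apply g.hom le_top _).symm.trans ?_
  refine Eq.trans ?_ (map_app_apply _ le_top _)
  have h1 : (Coh.structureModule X).presheaf.map (homOfLE (le_top : W ≤ ⊤)).op (FinCov.one X ⊤) = FinCov.one X W :=
    map_one (X.presheaf.map (homOfLE (le_top : W ≤ ⊤)).op).hom
  rw [h1]
  exact hg.trans ((FinCov.homOfSection_one x₀ W).trans hx₀).symm

/-- The defining property of the pairing on an affine open. -/
def IsPair (H : QCohCat.QCoh X ⥤ X.Modules) (W : X.affineOpens) (M : QCohCat.QCoh X) (m : Γ(M.obj, W.1))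
    (l : Γ(H.obj (qO X), W.1)) (t : Γ(H.obj M, W.1)) : Prop :=
  ∀ g : qO X ⟶ loc W.2.isCompact M, g.hom.app W.1 (FinCov.one X W.1) = (locUnit W.2.isCompact M).hom.app W.1 m →
    (H.map (locUnit W.2.isCompact M)).app W.1 t = (H.map g).app W.1 l

include hH

theorem Compat.existsUnique_isPair (W : X.affineOpens) (M : QCohCat.QCoh X) (m : Γ(M.obj, W.1))
    (l : Γ(H.obj (qO X), W.1)) : ∃! t, IsPair H W M m l t := by
  obtain ⟨g, hg, hg'⟩ := existsUnique_hom_one W.2.isCompact (closed_loc W.2.isCompact M)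
    ((locUnit W.2.isCompact M).hom.app W.1 m)
  obtain ⟨hi, hs⟩ := hH.bijective_map_locUnit W.2.isCompact M
  obtain ⟨t, ht⟩ := hs ((H.map g).app W.1 l)
  exact ⟨t, fun g₁ hg₁ => by rw [hg' g₁ hg₁]; exact ht, fun t' ht' => hi ((ht' g hg).trans ht.symm)⟩

/-- The pairing on an affine open. -/
def Compat.pair (W : X.affineOpens) (M : QCohCat.QCoh X) (m : Γ(M.obj, W.1)) (l : Γ(H.obj (qO X), W.1)) :
    Γ(H.obj M, W.1) := (hH.existsUnique_isPair W M m l).choose

theorem Compat.pair_eq {W : X.affineOpens} {M : QCohCat.QCoh X} {m : Γ(M.obj, W.1)} {l : Γ(H.obj (qO X), W.1)}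
    {t : Γ(H.obj M, W.1)} {g : qO X ⟶ loc W.2.isCompact M}
    (hg : g.hom.app W.1 (FinCov.one X W.1) = (locUnit W.2.isCompact M).hom.app W.1 m)
    (ht : (H.map (locUnit W.2.isCompact M)).app W.1 t = (H.map g).app W.1 l) : hH.pair W M m l = t :=
  (hH.bijective_map_locUnit W.2.isCompact M).1
    (((hH.existsUnique_isPair W M m l).choose_spec.1 g hg).trans ht.symm)

theorem Compat.pair_spec {W : X.affineOpens} {M : QCohCat.QCoh X} {m : Γ(M.obj, W.1)} (l : Γ(H.obj (qO X), W.1))
    {g : qO X ⟶ loc W.2.isCompact M}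
    (hg : g.hom.app W.1 (FinCov.one X W.1) = (locUnit W.2.isCompact M).hom.app W.1 m) :
    (H.map (locUnit W.2.isCompact M)).app W.1 (hH.pair W M m l) = (H.map g).app W.1 l :=
  (hH.existsUnique_isPair W M m l).choose_spec.1 g hg

theorem Compat.exists_pairing (M : QCohCat.QCoh X) :
    ∃ b : FinCov.Pairing M.obj (H.obj (qO X)) (H.obj M), ∀ (W : X.affineOpens) m l, b.f W.1 m l = hH.pair W M m l := by
  haveI : H.Additive := Functor.additive_of_preserves_binary_products _
  have hg : ∀ (W : X.affineOpens) (m : Γ(M.obj, W.1)), ∃ g : qO X ⟶ loc W.2.isCompact M,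
      g.hom.app W.1 (FinCov.one X W.1) = (locUnit W.2.isCompact M).hom.app W.1 m := fun W m =>
    (existsUnique_hom_one W.2.isCompact (closed_loc W.2.isCompact M) _).exists
  refine exists_pairing_of_affine (fun W => hH.pair W M) (fun W m m' l => ?_) (fun W r m l => ?_)
    (fun W m l l' => ?_) (fun W r m l => ?_) (fun W W' h m l => ?_)
  · obtain ⟨g, hg₁⟩ := hg W m
    obtain ⟨g', hg₂⟩ := hg W m'
    refine hH.pair_eq (g := g + g') ?_ ?_
    · change g.hom.app W.1 _ + g'.hom.app W.1 _ = _
      rw [hg₁, hg₂, map_add]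
    · rw [map_add, hH.pair_spec l hg₁, hH.pair_spec l hg₂, H.map_add]
      rfl
  · obtain ⟨g, hg₁⟩ := hg W m
    obtain ⟨e, he⟩ := exists_actsBy W.2.isCompact (closed_loc W.2.isCompact M) r
    refine hH.pair_eq (g := g ≫ e) ?_ ?_
    · change e.hom.app W.1 (g.hom.app W.1 _) = _
      rw [he W.1 le_rfl, hg₁, Scheme.Modules.Hom.app_smul]
      exact congrArg (· • _) (congr($(X.presheaf.map_id (op W.1)) r))
    · rw [Scheme.Modules.Hom.app_smul, hH.pair_spec l hg₁, H.map_comp, app_comp_apply,
        hH.acts W.1 W.2.isCompact _ (closed_loc W.2.isCompact M) r e he W.1 le_rfl]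
      exact congrArg (· • _) (congr($(X.presheaf.map_id (op W.1)) r)).symm
  · obtain ⟨g, hg₁⟩ := hg W m
    exact hH.pair_eq hg₁ (by rw [map_add, hH.pair_spec l hg₁, hH.pair_spec l' hg₁, map_add])
  · obtain ⟨g, hg₁⟩ := hg W m
    exact hH.pair_eq hg₁ (by rw [Scheme.Modules.Hom.app_smul, hH.pair_spec l hg₁, Scheme.Modules.Hom.app_smul])
  · obtain ⟨g, hg₁⟩ := hg W m
    have hk := off_kernel_locUnit W.2.isCompact M
    obtain ⟨r, hr⟩ := (Closed.mono h (closed_loc W'.2.isCompact M) (locUnit W.2.isCompact M) hk.1 hk.2).2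
      (locUnit W'.2.isCompact M)
    have hr' : locUnit W.2.isCompact M ≫ r = locUnit W'.2.isCompact M := hr
    refine (hH.pair_eq (g := g ≫ r) ?_ ?_).symm
    · have h1 : (Coh.structureModule X).presheaf.map (homOfLE h).op (FinCov.one X W.1) = FinCov.one X W'.1 :=
        map_one (X.presheaf.map (homOfLE h).op).hom
      rw [← h1]
      change r.hom.app W'.1 (g.hom.app W'.1 _) = _
      rw [map_app_apply g.hom h, hg₁, ← map_app_apply (locUnit W.2.isCompact M).hom h]
      exact congrArg (fun φ : M ⟶ _ => φ.hom.app W'.1 (M.obj.presheaf.map (homOfLE h).op m)) hr'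
    · rw [← hr', H.map_comp, H.map_comp, app_comp_apply, app_comp_apply, map_app_apply _ h,
        hH.pair_spec l hg₁, ← map_app_apply _ h]

theorem Compat.pair_natural {M N : QCohCat.QCoh X} (φ : M ⟶ N) (W : X.affineOpens) (m : Γ(M.obj, W.1))
    (l : Γ(H.obj (qO X), W.1)) : (H.map φ).app W.1 (hH.pair W M m l) = hH.pair W N (φ.hom.app W.1 m) l := by
  have hk := off_kernel_locUnit W.2.isCompact M
  obtain ⟨r, hr⟩ := (closed_loc W.2.isCompact N (locUnit W.2.isCompact M) hk.1 hk.2).2
    (φ ≫ locUnit W.2.isCompact N)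
  have hr' : locUnit W.2.isCompact M ≫ r = φ ≫ locUnit W.2.isCompact N := hr
  obtain ⟨g, hg, -⟩ := existsUnique_hom_one W.2.isCompact (closed_loc W.2.isCompact M)
    ((locUnit W.2.isCompact M).hom.app W.1 m)
  refine (hH.pair_eq (g := g ≫ r) ?_ ?_).symm
  · change r.hom.app W.1 (g.hom.app W.1 _) = _
    rw [hg]
    exact congrArg (fun φ : M ⟶ _ => φ.hom.app W.1 m) hr'
  · rw [← app_comp_apply, ← H.map_comp, ← hr', H.map_comp, H.map_comp, app_comp_apply, app_comp_apply, hH.pair_spec l hg]

theorem Compat.pair_one (W : X.affineOpens) (l : Γ(H.obj (qO X), W.1)) :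
    hH.pair W (qO X) (FinCov.one X W.1) l = l :=
  hH.pair_eq (g := locUnit W.2.isCompact (qO X)) rfl rfl

/-- The comparison with the tensor product. -/
theorem Compat.exists_natTrans : ∃ τ : (QCohCat.isQCoh X).ι ⋙ DCoh.tensorRightMod (H.obj (qO X)) ⟶ H,
    τ.app (qO X) = (OX.tensorUnitLeftIso (H.obj (qO X))).hom := by
  choose b hb using hH.exists_pairing
  have hall : ∀ {M N : QCohCat.QCoh X} (φ : M ⟶ N) (U : X.Opens) (m : Γ(M.obj, U)) (l : Γ(H.obj (qO X), U)),
      (H.map φ).app U ((b M).f U m l) = (b N).f U (φ.hom.app U m) l := fun {M N} φ U m l =>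
    eq_of_affine _ fun W k => by
      rw [← map_app_apply (H.map φ) k, (b M).map, (b N).map, hb, hb, hH.pair_natural φ, map_app_apply φ.hom k]
  refine ⟨{ app := fun M => (b M).hom, naturality := fun M N φ => ?_ }, ?_⟩
  · refine ProjFormula.hom_ext_tmul fun U m l => ?_
    change (b N).hom.app U ((DCoh.toP.map (((DCoh.tensorBi (X := X)).map φ.hom).app (H.obj (qO X)))).app (op U)
      (SecTwist.tmul M.obj (H.obj (qO X)) U m l)) = (H.map φ).app U ((b M).hom.app U (SecTwist.tmul M.obj (H.obj (qO X)) U m l))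
    refine (congrArg ((b N).hom.app U) (ProjFormula.map_left_tmulSec φ.hom (H.obj (qO X)) U m l)).trans ?_
    exact ((b N).hom_tmul U (φ.hom.app U m) l).trans ((hall φ U m l).symm.trans
      (congrArg ((H.map φ).app U) ((b M).hom_tmul U m l)).symm)
  · refine ProjFormula.hom_ext_tmul fun U r l => ?_
    refine ((b (qO X)).hom_tmul U r l).trans (Eq.trans ?_ (ProjFormula.tensorUnitLeftIso_tmulSec _ U r l).symm)
    refine eq_of_affine _ fun W k => ?_
    rw [(b (qO X)).map, hb]
    have hr : (Coh.structureModule X).presheaf.map (homOfLE k).op r =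
        (show Γ(X, W.1) from X.presheaf.map (homOfLE k).op r) • (show Γ((qO X).obj, W.1) from FinCov.one X W.1) :=
      (mul_one (show Γ(X, W.1) from X.presheaf.map (homOfLE k).op r)).symm
    erw [hr, ← hb, (b (qO X)).smul_left, hb, hH.pair_one, Scheme.Modules.map_smul]

omit hH in
/-- A transformation of right exact functors is invertible if every object is covered, up to maps inverted by both
functors, by one where it is invertible. -/
theorem isIso_app_of_covers {A : Type*} [Category A] [Abelian A] {B : Type*} [Category B] [HasZeroMorphisms B]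
    {F₁ F₂ : A ⥤ B} [F₁.PreservesZeroMorphisms] [F₂.PreservesZeroMorphisms] [PreservesFiniteColimits F₁]
    [PreservesFiniteColimits F₂] (T : F₁ ⟶ F₂)
    (h : ∀ M, ∃ (M' P : A) (u : M ⟶ M') (π : P ⟶ M'), IsIso (F₁.map u) ∧ IsIso (F₂.map u) ∧ IsIso (T.app P) ∧
      Epi (F₂.map π) ∧ ∀ (Q : A) (p : P ⟶ Q) (j : Q ⟶ M'), Epi p → Mono j → p ≫ j = π →
        IsIso (F₁.map j) ∧ IsIso (F₂.map j)) (M : A) : IsIso (T.app M) := by
  have hepi : ∀ M, Epi (T.app M) := fun M => by
    obtain ⟨M', P, u, π, hu₁, hu₂, hP, hπ, -⟩ := h M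
    haveI : Epi (F₁.map π ≫ T.app M') := by
      rw [T.naturality π]
      exact epi_comp _ _
    haveI := epi_of_epi (F₁.map π) (T.app M')
    have h1 : T.app M = F₁.map u ≫ T.app M' ≫ inv (F₂.map u) := by
      rw [← Category.assoc, T.naturality, Category.assoc, IsIso.hom_inv_id, Category.comp_id]
    rw [h1]
    infer_instance
  obtain ⟨M', P, u, π, hu₁, hu₂, hP, hπ, hj⟩ := h M
  let k := kernel.ι π
  let p := cokernel.π k
  let j : cokernel k ⟶ M' := cokernel.desc k π (kernel.condition π)
  obtain ⟨hj₁, hj₂⟩ := hj _ p j inferInstance (inferInstanceAs (Mono (Abelian.factorThruCoimage π))) (cokernel.π_desc _ _ _)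
  haveI := hepi (kernel π)
  let c₁ := isColimitCoforkMapOfIsColimit' F₁ (cokernel.condition k) (cokernelIsCokernel k)
  let c₂ := isColimitCoforkMapOfIsColimit' F₂ (cokernel.condition k) (cokernelIsCokernel k)
  have hzero' : F₂.map k ≫ inv (T.app _) ≫ F₁.map p = 0 := by
    rw [← cancel_epi (T.app (kernel π)), comp_zero, ← T.naturality_assoc, IsIso.hom_inv_id_assoc, ← F₁.map_comp,
      cokernel.condition, F₁.map_zero]
  obtain ⟨ψ, hψ⟩ := CokernelCofork.IsColimit.desc' c₂ (inv (T.app _) ≫ F₁.map p) hzero'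
  have hψ' : F₂.map p ≫ ψ = inv (T.app _) ≫ F₁.map p := hψ
  haveI : IsIso (T.app (cokernel k)) := by
    refine ⟨ψ, Cofork.IsColimit.hom_ext c₁ ?_, Cofork.IsColimit.hom_ext c₂ ?_⟩
    · show F₁.map p ≫ T.app (cokernel k) ≫ ψ = F₁.map p ≫ 𝟙 _
      rw [T.naturality_assoc, hψ', IsIso.hom_inv_id_assoc, Category.comp_id]
    · show F₂.map p ≫ ψ ≫ T.app (cokernel k) = F₂.map p ≫ 𝟙 _
      rw [reassoc_of% hψ', T.naturality, IsIso.inv_hom_id_assoc, Category.comp_id]
  have h1 : T.app M' = inv (F₁.map j) ≫ T.app (cokernel k) ≫ F₂.map j := by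
    rw [← T.naturality, IsIso.inv_hom_id_assoc]
  have h2 : T.app M = F₁.map u ≫ T.app M' ≫ inv (F₂.map u) := by
    rw [← Category.assoc, T.naturality, Category.assoc, IsIso.hom_inv_id, Category.comp_id]
  rw [h2, h1]
  infer_instance

omit hH in
theorem isZero_restrict_of_zero_top {W : X.affineOpens} {A B : X.Modules} [A.IsQuasicoherent] (c : A ⟶ B) [Epi c]
    (hc : ∀ x : Γ(A, W.1), c.app W.1 x = 0) : IsZero ((Scheme.Modules.restrictFunctor W.1.ι).obj B) := by
  let R := Scheme.Modules.restrictFunctor W.1.ι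
  haveI : IsAffine (W.1 : Scheme.{u}) := W.2
  haveI : PreservesColimitsOfSize.{0, 0} R := (Scheme.Modules.restrictAdjunction W.1.ι).leftAdjoint_preservesColimits
  haveI : Epi (R.map c) := R.map_epi c
  have hc' : ∀ (W' : X.Opens), W' = W.1 → ∀ x : Γ(A, W'), c.app W' x = 0 := fun W' h => by
    subst h
    exact hc
  haveI : (R.obj A).IsQuasicoherent := by
    haveI : ((Scheme.Modules.pullback W.1.ι).obj A).IsQuasicoherent := FittSheaf.isQuasicoherent_pullback _ _
    exact QCoh.isQuasicoherent_of_iso ((Scheme.Modules.restrictFunctorIsoPullback W.1.ι).app A).symm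
  haveI := FunMor20.epi_freeCover (R.obj A)
  have h0 : R.map c = 0 := by
    rw [← cancel_epi (FunMor20.freeCover (R.obj A)), comp_zero]
    refine Sigma.hom_ext _ _ fun x => ?_
    rw [comp_zero]
    refine (Sigma.ι_desc_assoc _ _ _).trans (FunMor20.homOfSection_unique ?_)
    change (R.map c).app ⊤ ((FinCov.homOfSection _).app ⊤ (FinCov.one _ ⊤)) = 0
    exact hc' (W.1.ι ''ᵁ ⊤) W.1.ι_image_top _
  exact IsZero.of_epi_eq_zero (R.map c) h0

omit hH in
theorem exists_free_cover {W : X.affineOpens} (M : QCohCat.QCoh X) :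
    ∃ π : freeQ X Γ(M.obj, W.1) ⟶ loc W.2.isCompact M, Off W.1 (cokernel π) := by
  choose g hg using fun m : Γ(M.obj, W.1) => (existsUnique_hom_one W.2.isCompact (closed_loc W.2.isCompact M)
    ((locUnit W.2.isCompact M).hom.app W.1 m)).exists
  let π : freeQ X Γ(M.obj, W.1) ⟶ loc W.2.isCompact M := Cofan.IsColimit.desc (isColimitFreeQ X _) g
  refine ⟨π, off_of_isZero_restrict ?_⟩
  let c := cokernel.π π
  haveI := FunMor20.preservesFiniteColimits_ι X
  haveI : Epi c.hom := inferInstanceAs (Epi ((QCohCat.isQCoh X).ι.map c))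
  haveI : (loc W.2.isCompact M).obj.IsQuasicoherent := (loc W.2.isCompact M).property
  refine isZero_restrict_of_zero_top c.hom fun x => ?_
  obtain ⟨m, rfl⟩ := (bijective_locUnit_app W.2.isCompact M (le_refl W.1)).2 x
  rw [← hg m]
  have h1 : g m ≫ c = 0 := by
    rw [show g m = freeQι m ≫ π from (Cofan.IsColimit.fac (isColimitFreeQ X _) g m).symm, Category.assoc,
      cokernel.condition, comp_zero]
  exact congrArg (fun φ : qO X ⟶ cokernel π => φ.hom.app W.1 (FinCov.one X W.1)) h1

theorem Compat.isIso_restrict_natTrans (τ : (QCohCat.isQCoh X).ι ⋙ DCoh.tensorRightMod (H.obj (qO X)) ⟶ H)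
    (hτ : IsIso (τ.app (qO X))) (W : X.affineOpens) (M₀ : QCohCat.QCoh X) :
    IsIso ((Scheme.Modules.restrictFunctor W.1.ι).map (τ.app M₀)) := by
  have hW := W.2.isCompact
  let L := H.obj (qO X)
  let R := Scheme.Modules.restrictFunctor W.1.ι
  haveI : PreservesColimitsOfSize.{u, u} R := (Scheme.Modules.restrictAdjunction W.1.ι).leftAdjoint_preservesColimits
  haveI : PreservesColimitsOfSize.{0, 0} R := (Scheme.Modules.restrictAdjunction W.1.ι).leftAdjoint_preservesColimits
  haveI : PreservesFiniteColimits R := PreservesColimitsOfSize.preservesFiniteColimits.{0, 0} _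
  haveI : PreservesColimitsOfSize.{u, u} (DCoh.tensorRightMod L) :=
    inferInstanceAs (PreservesColimitsOfSize.{u, u} ((DCoh.tensorBi).flip.obj L))
  haveI : PreservesFiniteColimits (DCoh.tensorRightMod L) :=
    preservesFiniteColimits_of_preservesFiniteColimitsOfSize.{u} _ fun _ _ _ => inferInstance
  haveI := FunMor20.preservesFiniteColimits_ι X
  haveI := fun J : Type u => FunMor20.preservesDiscrete_ι X J
  let F₁ := ((QCohCat.isQCoh X).ι ⋙ DCoh.tensorRightMod L) ⋙ R
  let F₂ := H ⋙ R
  let T : F₁ ⟶ F₂ := Functor.whiskerRight τ R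
  haveI : PreservesFiniteColimits F₁ :=
    haveI := comp_preservesFiniteColimits (QCohCat.isQCoh X).ι (DCoh.tensorRightMod L)
    comp_preservesFiniteColimits _ R
  haveI : PreservesFiniteColimits F₂ := comp_preservesFiniteColimits _ R
  have hF₁ : ∀ {A B : QCohCat.QCoh X} (f : A ⟶ B), Off W.1 (kernel f) → Off W.1 (cokernel f) → IsIso (F₁.map f) :=
    fun f hk hc => OX.isIso_restrict_tensor_left W.1.ι f.hom (isIso_restrict_of_off f hk hc) L
  have hF₂ : ∀ {A B : QCohCat.QCoh X} (f : A ⟶ B), Off W.1 (kernel f) → Off W.1 (cokernel f) → IsIso (F₂.map f) :=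
    fun f hk hc => hH.isIso_restrict_map hW f hk hc
  haveI : H.Additive := Functor.additive_of_preserves_binary_products _
  haveI : F₁.PreservesZeroMorphisms := inferInstance
  haveI : F₂.PreservesZeroMorphisms := inferInstance
  have hzero : ∀ E, Off W.1 E → IsZero (F₂.obj E) := fun E hE => by
    rw [IsZero.iff_id_eq_zero]
    refine AffHom.hom_ext fun V m => ?_
    have : Subsingleton Γ(H.obj E, W.1.ι ''ᵁ V.1) := hH.off W.1 hW E hE _ (W.1.ι_image_le V.1)
    exact @Subsingleton.elim _ this _ _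
  have hTO : IsIso (T.app (qO X)) := by
    haveI := hτ
    exact inferInstanceAs (IsIso (R.map (τ.app (qO X))))
  haveI : ∀ J : Type u, PreservesColimitsOfShape (Discrete J) F₁ := fun J =>
    haveI := comp_preservesColimitsOfShape (J := Discrete J) (QCohCat.isQCoh X).ι (DCoh.tensorRightMod L)
    comp_preservesColimitsOfShape _ R
  haveI : ∀ J : Type u, PreservesColimitsOfShape (Discrete J) F₂ := fun J => comp_preservesColimitsOfShape H R
  have hTP : ∀ J : Type u, IsIso (T.app (Cofan.mk (freeQ X J) fun i => freeQι (U := X) i).pt) := fun J =>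
    @OX.isIso_app_of_isColimit _ _ _ _ _ _ T _ _ _ _ (isColimitFreeQ X J) inferInstance inferInstance fun _ => hTO
  refine isIso_app_of_covers T (fun M => ?_) M₀
  obtain ⟨π, hπ⟩ := exists_free_cover (W := W) M
  refine ⟨_, _, locUnit hW M, π, hF₁ _ (off_kernel_locUnit hW M).1 (off_kernel_locUnit hW M).2,
    hF₂ _ (off_kernel_locUnit hW M).1 (off_kernel_locUnit hW M).2,
    hTP _, ?_, fun Q p j hp hj hpj => ?_⟩
  · exact Preadditive.epi_of_cokernel_zero (((hzero _ hπ).of_iso (PreservesCokernel.iso F₂ π).symm).eq_of_tgt _ _)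
  · have hjk : Off W.1 (kernel j) := off_of_isZero (isZero_kernel_of_mono j)
    have hjc : Off W.1 (cokernel j) := hπ.of_iso (cokernelIsoOfEq hpj.symm ≪≫ cokernelEpiComp p j)
    exact ⟨hF₁ j hjk hjc, hF₂ j hjk hjc⟩

/-- An exact functor compatible with supports and scalars is a tensor product. -/
theorem Compat.nonempty_iso : Nonempty ((QCohCat.isQCoh X).ι ⋙ DCoh.tensorRightMod (H.obj (qO X)) ≅ H) := by
  obtain ⟨τ, hτ⟩ := hH.exists_natTrans
  have hτ' : IsIso (τ.app (qO X)) := hτ ▸ inferInstance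
  haveI : ∀ M, IsIso (τ.app M) := fun M => by
    have hb : ∀ W : X.affineOpens, Function.Bijective ((τ.app M).app W.1) := fun W =>
      haveI := hH.isIso_restrict_natTrans τ hτ' W M
      bijective_app_of_isIso_restrict _ le_rfl
    obtain ⟨e, he⟩ := AffHom.exists_iso (fun W : X.affineOpens => LinearEquiv.ofBijective
      ({ toFun := fun m => (τ.app M).app W.1 m
         map_add' := fun a b => map_add _ a b
         map_smul' := fun r a => Scheme.Modules.Hom.app_smul (τ.app M) r a } :
        Γ(((QCohCat.isQCoh X).ι ⋙ DCoh.tensorRightMod (H.obj (qO X))).obj M, W.1) →ₗ[Γ(X, W.1)] Γ(H.obj M, W.1)) (hb W))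
      (fun W W' h m => (map_app_apply (τ.app M) h m).symm)
    have : e.hom = τ.app M := AffHom.hom_ext fun W m => he W m
    exact this ▸ e.isIso_hom
  haveI := NatIso.isIso_of_isIso_app τ
  exact ⟨asIso τ⟩

end GrothLib.GabRos20
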