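import Groth.Agent.Lib.GabRos20.SchemeIso
import Groth.Agent.Lib.GabRos20.Functor
import Groth.Agent.Lib.GabRos20.Invertible
import Groth.Agent.Lib.OX.PullbackTensor

/-!
# Reconstruction of a scheme from its quasi-coherent modules
-/

set_option autoImplicit false
set_option linter.style.haveILetI false
set_option linter.style.longLine false
set_option maxHeartbeats 1000000
set_option backward.isDefEq.respectTransparency.types false

universe u

open CategoryTheory CategoryTheory.Limits AlgebraicGeometry Opposite TopologicalSpace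

noncomputable section

namespace GrothLib.GabRos20

open FunMor20 (qO)

/-- Direct image along an isomorphism, as an equivalence. -/
def pushEquiv {X Y : Scheme.{u}} (f : Y ≅ X) : Y.Modules ≌ X.Modules :=
  CategoryTheory.Equivalence.mk (Scheme.Modules.pushforward f.hom) (Scheme.Modules.pushforward f.inv)
    ((Scheme.Modules.pushforwardId Y).symm ≪≫ Scheme.Modules.pushforwardCongr f.hom_inv_id.symm ≪≫
      (Scheme.Modules.pushforwardComp f.hom f.inv).symm)
    (Scheme.Modules.pushforwardComp f.inv f.hom ≪≫ Scheme.Modules.pushforwardCongr f.inv_hom_id ≪≫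
      Scheme.Modules.pushforwardId X)

/-- Pullback undoes direct image along an isomorphism. -/
def pushPullIso {X Y : Scheme.{u}} (f : Y ≅ X) :
    Scheme.Modules.pushforward f.hom ⋙ Scheme.Modules.pullback f.hom ≅ 𝟭 Y.Modules :=
  Functor.isoWhiskerLeft _
      ((Scheme.Modules.pullbackPushforwardAdjunction f.hom).leftAdjointUniq (pushEquiv f).symm.toAdjunction) ≪≫
    (pushEquiv f).unitIso.symm

/-- Pullback of a tensor product, naturally in the first variable. -/
def pullTensorRightIso {X Y : Scheme.{u}} (f : Y ⟶ X) (L : X.Modules) :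
    DCoh.tensorRightMod L ⋙ Scheme.Modules.pullback f ≅
      Scheme.Modules.pullback f ⋙ DCoh.tensorRightMod ((Scheme.Modules.pullback f).obj L) :=
  NatIso.ofComponents (fun M => OX.pullTensorIso f M L) fun a => OX.pullTensorIso_natural₁ f a L

theorem isFinitelyPresentable_obj {X Y : Scheme.{u}} (Φ : QCohCat.QCoh X ≌ QCohCat.QCoh Y) (F : QCohCat.QCoh X)
    (hF : IsFinitelyPresentable.{u} F) : IsFinitelyPresentable.{u} (Φ.functor.obj F) := by
  rw [isFinitelyPresentable_iff_preservesFilteredColimitsOfSize.{u}]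
  haveI hp := (isFinitelyPresentable_iff_preservesFilteredColimitsOfSize.{u}).1 hF
  haveI : PreservesFilteredColimitsOfSize.{u, u} (Φ.inverse ⋙ coyoneda.obj (op F)) :=
    ⟨fun J _ _ => inferInstance⟩
  let iso : Φ.inverse ⋙ coyoneda.obj (op F) ≅ coyoneda.obj (op (Φ.functor.obj F)) :=
    NatIso.ofComponents (fun N => ((Φ.toAdjunction.homEquiv F N).symm).toIso) fun {N N'} g => by
      ext a
      exact Φ.toAdjunction.homEquiv_naturality_right_symm (show F ⟶ Φ.inverse.obj N from a) g
  exact ⟨fun J _ _ => preservesColimitsOfShape_of_natIso iso⟩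

theorem isFP_structureModule (X : Scheme.{u}) : CohB1.IsFP (Coh.structureModule X) :=
  haveI : (Coh.structureModule X).IsQuasicoherent := WeakAss.isQuasicoherent_structureModule
  FlatFP.isFP_of_sections _ (fun U : X.affineOpens => U.1) (iSup_affineOpens_eq_top X) (fun U => U.2) fun U =>
    inferInstanceAs (Module.FinitePresentation Γ(X, U.1) Γ(X, U.1))

/-- Gabriel's reconstruction for quasi-compact quasi-separated schemes. -/
theorem reconstruct (X Y : Scheme.{u}) [CompactSpace X] [QuasiSeparatedSpace X] [CompactSpace Y]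
    [QuasiSeparatedSpace Y] (Φ : QCohCat.QCoh X ≌ QCohCat.QCoh Y) :
    ∃ (f : Y ≅ X) (L : Y.Modules), PicF.IsInvertible L ∧
      Nonempty (Φ.functor ⋙ (QCohCat.isQCoh Y).ι ≅
        (QCohCat.isQCoh X).ι ⋙ Scheme.Modules.pullback f.hom ⋙ DCoh.tensorRightMod L) := by
  obtain ⟨f, hf⟩ := exists_iso Φ
  let P := Scheme.Modules.pushforward f.hom
  haveI : P.IsEquivalence := (pushEquiv f).isEquivalence_functor
  let G := Φ.functor ⋙ (QCohCat.isQCoh Y).ι
  let H := G ⋙ P
  haveI := QCohCat20.preservesFiniteLimits_ι (X := Y)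
  haveI := FunMor20.preservesFiniteColimits_ι Y
  haveI := fun J : Type u => FunMor20.preservesDiscrete_ι Y J
  haveI : PreservesFiniteLimits G := comp_preservesFiniteLimits _ _
  haveI : PreservesFiniteColimits G := comp_preservesFiniteColimits _ _
  haveI : ∀ J : Type u, PreservesColimitsOfShape (Discrete J) G := fun J => comp_preservesColimitsOfShape _ _
  haveI : PreservesFiniteLimits H := comp_preservesFiniteLimits _ _
  haveI : PreservesFiniteColimits H := comp_preservesFiniteColimits _ _
  haveI : ∀ J : Type u, PreservesColimitsOfShape (Discrete J) H := fun J => comp_preservesColimitsOfShape _ _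
  have hH : Compat H := by
    refine ⟨fun U hU E hE W hW => ?_, fun U hU M hM s e he V hV m => ?_⟩
    · exact (((hf U hU).1.iff E).1 hE).subsingleton (f.hom.preimage_mono hW)
    · refine ((hf U hU).2 s M hM e he (f.hom ⁻¹ᵁ V) (f.hom.preimage_mono hV) m).trans ?_
      refine congrArg (· • (show Γ((Φ.functor.obj M).obj, f.hom ⁻¹ᵁ V) from m)) ?_
      exact (ConcreteCategory.congr_hom (f.hom.naturality (homOfLE hV).op) s).symm
  obtain ⟨e⟩ := hH.nonempty_iso
  let L₀ := H.obj (qO X)
  let L := (Scheme.Modules.pullback f.hom).obj L₀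
  let I : G ≅ (QCohCat.isQCoh X).ι ⋙ Scheme.Modules.pullback f.hom ⋙ DCoh.tensorRightMod L :=
    G.rightUnitor.symm ≪≫ Functor.isoWhiskerLeft G (pushPullIso f).symm ≪≫
      (Functor.associator G P (Scheme.Modules.pullback f.hom)).symm ≪≫
      Functor.isoWhiskerRight e.symm (Scheme.Modules.pullback f.hom) ≪≫
      Functor.associator _ _ _ ≪≫ Functor.isoWhiskerLeft _ (pullTensorRightIso f.hom L₀)
  refine ⟨f, L, ?_, ⟨I⟩⟩
  have hfp : CohB1.IsFP L := by
    haveI := isFinitelyPresentable_obj Φ (qO X) (QCohCat20.isFinitelyPresentable_of_isFP _ (isFP_structureModule X))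
    exact (SheafOfModules.isFinitePresentation Y.ringCatSheaf).prop_of_iso
      ((pushPullIso f).app ((Φ.functor.obj (qO X)).obj)).symm
      (QCohCat20.isFP_of_isFinitelyPresentable (Φ.functor.obj (qO X)))
  let E := Φ.inverse.obj (qO Y)
  exact isInvertible_of_tensor_iso_structure (N := (Scheme.Modules.pullback f.hom).obj E.obj)
    ((I.app E).symm ≪≫ (QCohCat.isQCoh Y).ι.mapIso (Φ.counitIso.app (qO Y))) hfp

end GrothLib.GabRos20
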