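import Groth.Agent.Lib.QCohCat20.Category
import Groth.Agent.Lib.QCohCat20.Compact
import Groth.Agent.Lib.SerreClosure20.Basic
import Groth.Agent.Lib.FgSupport6.Exists
import Groth.Agent.Lib.Fitting.Support
import Groth.Agent.Lib.FunMor20.Functors
import Groth.Agent.Lib.FunMor20.Coprod
import Groth.Agent.Lib.Snapper.Intersection
import Groth.Agent.S6722
import Mathlib.Algebra.Homology.ShortComplex.ExactFunctor
import Mathlib.CategoryTheory.Abelian.ShortExact

/-!
# Supports of quasi-coherent modules in categorical terms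
-/

set_option autoImplicit false
set_option linter.style.haveILetI false
set_option linter.style.longLine false
set_option maxHeartbeats 1000000
set_option backward.isDefEq.respectTransparency.types false

universe u

open CategoryTheory CategoryTheory.Limits AlgebraicGeometry Opposite TopologicalSpace

noncomputable section

namespace GrothLib.GabRos20

variable {X Y : Scheme.{u}}

/-- The support avoids the open. -/
def Off (U : X.Opens) (E : QCohCat.QCoh X) : Prop := CohB1.support E.obj ⊆ (U : Set X)ᶜ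

theorem Off.subsingleton {U : X.Opens} {E : QCohCat.QCoh X} (h : Off U E) {W : X.Opens} (hW : W ≤ U) :
    Subsingleton Γ(E.obj, W) := by
  haveI : E.obj.IsQuasicoherent := E.property
  refine subsingleton_of_forall_eq 0 fun t => WeakAss.eq_zero_of_germ t fun z hz _ => ?_
  exact (QCoh.notMem_support_iff E.obj z).1 (fun hs => h hs (hW hz)) W hz t

theorem off_of_subsingleton {U : X.Opens} {E : QCohCat.QCoh X}
    (h : ∀ W : X.Opens, W ≤ U → Subsingleton Γ(E.obj, W)) : Off U E :=
  fun _ hz hzU => QCoh.notMem_support_of_forall_subsingleton E.obj h hzU hz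

theorem Off.mono {U V : X.Opens} (hle : V ≤ U) {E : QCohCat.QCoh X} (h : Off U E) : Off V E :=
  h.trans (Set.compl_subset_compl.2 hle)

/-- A class of quasi-coherent modules closed under extensions, subquotients and sums. -/
structure IsLocClass (P : ObjectProperty (QCohCat.QCoh X)) : Prop where
  iso : ∀ {A B : QCohCat.QCoh X}, (A ≅ B) → P A → P B
  serre : ∀ S : ShortComplex (QCohCat.QCoh X), S.ShortExact → (P S.X₂ ↔ P S.X₁ ∧ P S.X₃)
  sum : ∀ {ι : Type u} {M : ι → QCohCat.QCoh X} (c : Cofan M), IsColimit c → (∀ i, P (M i)) → P c.pt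

/-- `E` lies in every such class containing `F`. -/
def Loc (F E : QCohCat.QCoh X) : Prop := ∀ P : ObjectProperty (QCohCat.QCoh X), IsLocClass P → P F → P E

theorem isLocClass_support (Z : Set X) : IsLocClass (fun E : QCohCat.QCoh X => CohB1.support E.obj ⊆ Z) where
  iso {A B} e h := (QCoh.support_eq_of_iso ((QCohCat.isQCoh X).ι.mapIso e)).symm.subset.trans h
  serre S hS := by
    haveI := FunMor20.preservesFiniteColimits_ι X
    haveI := QCohCat20.preservesFiniteLimits_ι (X := X)
    have hS' := hS.map_of_exact (QCohCat.isQCoh X).ι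
    haveI := hS'.mono_f
    haveI := hS'.epi_g
    exact ⟨fun h => ⟨(QCoh.support_subset_of_mono (S.map (QCohCat.isQCoh X).ι).f).trans h,
        (QCoh.support_subset_of_epi (S.map (QCohCat.isQCoh X).ι).g).trans h⟩,
      fun h => (QCoh.support_subset_union hS').trans (Set.union_subset h.1 h.2)⟩
  sum {ι M} c hc h z hz := by
    classical
    haveI := FunMor20.preservesDiscrete_ι X ι
    let hc' := isColimitCofanMkObjOfIsColimit (QCohCat.isQCoh X).ι M _ (IsColimit.ofIsoColimit hc (Cofan.ext (Iso.refl _) (fun i => by simp) : c ≅ Cofan.mk c.pt c.inj))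
    let e : (∐ fun i => (M i).obj) ≅ c.pt.obj :=
      (coproductIsCoproduct fun i => (M i).obj).coconePointUniqueUpToIso hc'
    rw [← QCoh.support_eq_of_iso e] at hz
    by_contra hzZ
    refine hz ?_
    refine subsingleton_of_forall_eq 0 fun t => ?_
    obtain ⟨V, hzV, s, rfl⟩ := TopCat.Presheaf.exists_germ_eq (∐ fun i => (M i).obj : X.Modules).presheaf t
    obtain ⟨W, hW, hzW, hWV⟩ := exists_isAffineOpen_mem_and_subset (x := z) (U := V) hzV
    rw [← TopCat.Presheaf.germ_res_apply (∐ fun i => (M i).obj : X.Modules).presheaf (homOfLE hWV) z hzW s]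
    obtain ⟨T, hT⟩ := FunMor20.exists_eq_sum (fun i => (M i).obj) hW.isCompact
      ((∐ fun i => (M i).obj : X.Modules).presheaf.map (homOfLE hWV).op s)
    refine (congrArg _ hT).trans ((map_sum _ _ _).trans (Finset.sum_eq_zero fun k _ => ?_))
    let m := (Sigma.π (fun i => (M i).obj) k).app W ((∐ fun i => (M i).obj : X.Modules).presheaf.map (homOfLE hWV).op s)
    have h0 : (M k).obj.presheaf.germ W z hzW m = 0 := (QCoh.notMem_support_iff _ z).1 (fun hk => hzZ (h k hk)) W hzW m
    refine (QCoh.stalkLin_germ (Sigma.ι (fun i => (M i).obj) k) hzW m).symm.trans ?_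
    rw [h0, map_zero]

variable [CompactSpace X] [QuasiSeparatedSpace X]

theorem loc_iff_support (F E : QCohCat.QCoh X) [IsFinitelyPresentable.{u} F] :
    Loc F E ↔ CohB1.support E.obj ⊆ CohB1.support F.obj := by
  refine ⟨fun h => h _ (isLocClass_support _) (le_refl _), fun h P hP hPF => ?_⟩
  let P' : ObjectProperty X.Modules := fun M => ∀ hM : QCohCat.isQCoh X M, P ⟨M, hM⟩
  refine Groth.Agent.S6722.result X F.obj F.property (QCohCat20.isFP_of_isFinitelyPresentable F) P'
    (fun _ => hPF) (fun S hS h₁ h₂ h₃ => ?_) (fun ι M hM hPM hq => ?_) E.obj E.property h E.property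
  · let S' : ShortComplex (QCohCat.QCoh X) :=
      ShortComplex.mk (X₁ := ⟨S.X₁, h₁⟩) (X₂ := ⟨S.X₂, h₂⟩) (X₃ := ⟨S.X₃, h₃⟩)
        (ObjectProperty.homMk S.f) (ObjectProperty.homMk S.g) (ObjectProperty.hom_ext _ S.zero)
    haveI := FunMor20.preservesFiniteColimits_ι X
    haveI := QCohCat20.preservesFiniteLimits_ι (X := X)
    have hS' : S'.ShortExact := by
      exact (CategoryTheory.ShortExact.shortExact_map_iff (QCohCat.isQCoh X).ι).1 hS
    have h4 := hP.serre S' hS'
    exact ⟨fun h => ⟨fun _ => (h4.1 (h h₂)).1, fun _ => (h4.1 (h h₂)).2⟩, fun h _ => h4.2 ⟨h.1 h₁, h.2 h₃⟩⟩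
  · let c : Cofan fun i => (⟨M i, hM i⟩ : QCohCat.QCoh X) :=
      Cofan.mk ⟨∐ M, hq⟩ fun i => ObjectProperty.homMk (Sigma.ι M i)
    refine hP.sum c ?_ fun i => hPM i (hM i)
    exact Cofan.IsColimit.mk c (fun s => ObjectProperty.homMk (Sigma.desc fun i => (s.inj i).hom))
      (fun s i => ObjectProperty.hom_ext _ (Sigma.ι_desc _ _))
      fun s k hk => ObjectProperty.hom_ext _ (Sigma.hom_ext _ _ fun i => by
        rw [ObjectProperty.homMk_hom, Sigma.ι_desc]
        exact congrArg InducedCategory.Hom.hom (hk i))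

theorem isClosed_and_compact_compl_support (F : QCohCat.QCoh X) [IsFinitelyPresentable.{u} F] :
    ∃ V : X.Opens, IsCompact (V : Set X) ∧ (V : Set X) = (CohB1.support F.obj)ᶜ := by
  classical
  haveI : F.obj.IsQuasicoherent := F.property
  have hFP := QCohCat20.isFP_of_isFinitelyPresentable F
  let supp := CohB1.support F.obj
  have hloc : ∀ W : X.affineOpens, IsCompact ((W.1 : Set X) \ supp) ∧ IsOpen ((W.1 : Set X) \ supp) := fun W => by
    haveI := FlatFP.finitePresentation_sections (F := F.obj) hFP W.2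
    obtain ⟨s, hs⟩ := Fitting.ideal_fg (R := Γ(X, W.1)) (M := Γ(F.obj, W.1)) 0
    have h1 : (W.1 : Set X) \ supp = ⋃ f ∈ s, (X.basicOpen f : Set X) := by
      ext z
      simp only [Set.mem_sdiff, Set.mem_iUnion, SetLike.mem_coe, exists_prop]
      constructor
      · rintro ⟨hz, hzs⟩
        rw [QCoh.mem_support_iff_primeAt F.obj W.2 hz, ← Fitting.zeroLocus_ideal_zero, PrimeSpectrum.mem_zeroLocus,
          SetLike.coe_subset_coe, ← hs, Submodule.span_le] at hzs
        obtain ⟨f, hf, hfz⟩ := Set.not_subset.1 hzs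
        exact ⟨f, hf, WeakAss.notMem_primeAt_iff.1 hfz⟩
      · rintro ⟨f, hf, hzf⟩
        have hz := X.basicOpen_le f hzf
        refine ⟨hz, fun hzs => ?_⟩
        rw [QCoh.mem_support_iff_primeAt F.obj W.2 hz, ← Fitting.zeroLocus_ideal_zero, PrimeSpectrum.mem_zeroLocus] at hzs
        exact WeakAss.notMem_primeAt_iff.2 hzf (hzs (hs ▸ Submodule.subset_span hf))
    rw [h1]
    exact ⟨s.isCompact_biUnion fun f _ => (W.2.basicOpen f).isCompact, isOpen_biUnion fun f _ => (X.basicOpen f).isOpen⟩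
  obtain ⟨ι, _, W, hW, -, hcov⟩ := QCoh.exists_finite_affine_cover (U := (⊤ : X.Opens)) isCompact_univ
  have h2 : suppᶜ = ⋃ i, ((W i : Set X) \ supp) := by
    ext z
    simp only [Set.mem_compl_iff, Set.mem_iUnion, Set.mem_sdiff]
    refine ⟨fun h => ?_, fun ⟨_, _, h⟩ => h⟩
    obtain ⟨i, hi⟩ := Opens.mem_iSup.1 (hcov (Set.mem_univ z))
    exact ⟨i, hi, h⟩
  refine ⟨⟨suppᶜ, h2 ▸ isOpen_iUnion fun i => (hloc ⟨W i, hW i⟩).2⟩, ?_, rfl⟩
  change IsCompact suppᶜ
  exact h2 ▸ isCompact_iUnion fun i => (hloc ⟨W i, hW i⟩).1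

theorem exists_fp_support_compl (U : X.Opens) (hU : IsCompact (U : Set X)) :
    ∃ F : QCohCat.QCoh X, IsFinitelyPresentable.{u} F ∧ CohB1.support F.obj = (U : Set X)ᶜ := by
  obtain ⟨I, hfg, hsupp⟩ := FgSupport6.exists_fg_support_eq U hU
  haveI : (Coh.structureModule I.subscheme).IsQuasicoherent := WeakAss.isQuasicoherent_structureModule
  haveI hq : (ClSub.quotMod I).IsQuasicoherent := QCoh.isQuasicoherent_pushforward I.subschemeι _
  have hsec : ∀ W : X.affineOpens, ∃ π : Γ(X, W.1) →ₗ[Γ(X, W.1)] Γ(ClSub.quotMod I, W.1),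
      Function.Surjective π ∧ LinearMap.ker π = I.ideal W := fun W => by
    let π : Γ(X, W.1) →ₗ[Γ(X, W.1)] Γ(ClSub.quotMod I, W.1) :=
      { toFun := fun a => I.subschemeι.app W.1 a
        map_add' := fun a b => map_add _ a b
        map_smul' := fun a b => map_mul (I.subschemeι.app W.1).hom a b }
    refine ⟨π, I.subschemeι_app_surjective W, ?_⟩
    rw [← Scheme.IdealSheafData.ker_subschemeι_app I W]
    rfl
  have hFP : CohB1.IsFP (ClSub.quotMod I) :=
    FlatFP.isFP_of_sections _ (fun W : X.affineOpens => W.1) (iSup_affineOpens_eq_top X) (fun W => W.2) fun W => by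
      obtain ⟨π, hπ, hker⟩ := hsec W
      exact Module.finitePresentation_of_surjective π hπ (hker ▸ hfg W)
  refine ⟨⟨ClSub.quotMod I, hq⟩, QCohCat20.isFinitelyPresentable_of_isFP _ hFP, ?_⟩
  refine le_antisymm (hsupp ▸ Snapper.support_quotMod I) fun z hz => ?_
  rw [← hsupp] at hz
  obtain ⟨W, hW, hzW, -⟩ := exists_isAffineOpen_mem_and_subset (x := z) (U := (⊤ : X.Opens)) trivial
  obtain ⟨π, hπ, hker⟩ := hsec ⟨W, hW⟩
  refine (QCoh.mem_support_iff_primeAt (ClSub.quotMod I) hW hzW).2 ?_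
  haveI : Module.Finite Γ(X, W) Γ(ClSub.quotMod I, W) := Module.Finite.of_surjective π hπ
  refine Module.mem_support_iff_of_finite.2 fun a ha => ?_
  by_contra hna
  have hzero : π a = 0 := by
    rw [← mul_one a, ← smul_eq_mul, map_smul, Module.mem_annihilator.1 ha]
  rw [← LinearMap.mem_ker, hker] at hzero
  exact hna ((((Scheme.mem_zeroLocus_iff _ _ _).1
    ((Scheme.IdealSheafData.mem_support_iff_of_mem (U := ⟨W, hW⟩) hzW).1 hz)) a hzero |> fun h =>
      (Classical.not_not.1 fun hh => h (WeakAss.notMem_primeAt_iff.1 hh))))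

theorem le_of_off {U U' : X.Opens} (hU : IsCompact (U : Set X))
    (h : ∀ E : QCohCat.QCoh X, Off U E → Off U' E) : U' ≤ U := by
  obtain ⟨F, -, hF⟩ := exists_fp_support_compl U hU
  intro z hz
  by_contra hzU
  exact h F hF.subset (hF.symm.subset hzU) hz

variable [CompactSpace Y] [QuasiSeparatedSpace Y]

omit [CompactSpace X] [QuasiSeparatedSpace X] [CompactSpace Y] [QuasiSeparatedSpace Y] in
theorem IsLocClass.comap {P : ObjectProperty (QCohCat.QCoh Y)} (hP : IsLocClass P) (Φ : QCohCat.QCoh X ≌ QCohCat.QCoh Y) :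
    IsLocClass (fun E => P (Φ.functor.obj E)) where
  iso e h := hP.iso (Φ.functor.mapIso e) h
  serre S hS := hP.serre (S.map Φ.functor) (hS.map_of_exact Φ.functor)
  sum {ι M} c hc h := hP.sum (Cofan.mk (Φ.functor.obj c.pt) fun i => Φ.functor.map (c.inj i))
    (isColimitCofanMkObjOfIsColimit Φ.functor M _ (IsColimit.ofIsoColimit hc (Cofan.ext (Iso.refl _) (fun i => by simp) : c ≅ Cofan.mk c.pt c.inj))) h

theorem loc_map_iff (Φ : QCohCat.QCoh X ≌ QCohCat.QCoh Y) (F E : QCohCat.QCoh X) :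
    Loc (Φ.functor.obj F) (Φ.functor.obj E) ↔ Loc F E := by
  refine ⟨fun h P hP hPF => ?_, fun h P hP hPF => h _ (hP.comap Φ) hPF⟩
  exact hP.iso (Φ.unitIso.app E).symm (h _ (hP.comap Φ.symm) (hP.iso (Φ.unitIso.app F) hPF))

theorem exists_match (Φ : QCohCat.QCoh X ≌ QCohCat.QCoh Y) (U : X.Opens) (hU : IsCompact (U : Set X)) :
    ∃ V : Y.Opens, IsCompact (V : Set Y) ∧ ∀ E, Off U E ↔ Off V (Φ.functor.obj E) := by
  obtain ⟨F, hF, hFs⟩ := exists_fp_support_compl U hU
  haveI := hF
  haveI : IsFinitelyPresentable.{u} (Φ.functor.obj F) := by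
    rw [isFinitelyPresentable_iff_preservesFilteredColimitsOfSize.{u}]
    haveI hp := (isFinitelyPresentable_iff_preservesFilteredColimitsOfSize.{u}).1 hF
    haveI : PreservesFilteredColimitsOfSize.{u, u} (Φ.inverse ⋙ coyoneda.obj (op F)) :=
      ⟨fun J _ _ => inferInstance⟩
    let iso : Φ.inverse ⋙ coyoneda.obj (op F) ≅ coyoneda.obj (op (Φ.functor.obj F)) :=
      NatIso.ofComponents (fun N => ((Φ.toAdjunction.homEquiv F N).symm).toIso) fun {N N'} g => by
        ext a
        exact Φ.toAdjunction.homEquiv_naturality_right_symm (show F ⟶ Φ.inverse.obj N from a) g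
    exact ⟨fun J _ _ => preservesColimitsOfShape_of_natIso iso⟩
  obtain ⟨V, hV, hVs⟩ := isClosed_and_compact_compl_support (Φ.functor.obj F)
  refine ⟨V, hV, fun E => ?_⟩
  rw [Off, Off, ← hFs, ← loc_iff_support, ← loc_map_iff Φ, loc_iff_support, hVs, compl_compl]

end GrothLib.GabRos20
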