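import Groth.Agent.Lib.GabRos20.Class
import Groth.Agent.Lib.AffHom.Basic
import Groth.Agent.Lib.FunMor20.Scalar
import Groth.Agent.Lib.QCoh.Qcqs

/-!
# Objects local with respect to an open, and their scalars
-/

set_option autoImplicit false
set_option linter.style.haveILetI false
set_option linter.style.longLine false
set_option linter.unusedSectionVars false
set_option maxHeartbeats 1000000
set_option backward.isDefEq.respectTransparency.types false

universe u

open CategoryTheory CategoryTheory.Limits AlgebraicGeometry Opposite TopologicalSpace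

noncomputable section

namespace GrothLib.GabRos20

variable {X : Scheme.{u}}

theorem map_app_apply {M N : X.Modules} (f : M ⟶ N) {V W : X.Opens} (h : W ≤ V) (m : Γ(M, V)) :
    f.app W (M.presheaf.map (homOfLE h).op m) = N.presheaf.map (homOfLE h).op (f.app V m) :=
  congr($((Scheme.Modules.Hom.mapPresheaf f).naturality (homOfLE h).op) m)

theorem app_comp_apply {M N P : X.Modules} (f : M ⟶ N) (g : N ⟶ P) (W : X.Opens) (m : Γ(M, W)) :
    (f ≫ g).app W m = g.app W (f.app W m) := rfl

theorem bijective_map_of_eq (M : X.Modules) {V W : X.Opens} (h : W ≤ V) (h' : W = V) :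
    Function.Bijective (M.presheaf.map (homOfLE h).op) := by
  subst h'
  have : M.presheaf.map (homOfLE h).op = 𝟙 _ := M.presheaf.map_id _
  rw [this]
  exact Function.bijective_id

theorem image_preimage_eq_of_le {U V : X.Opens} (h : V ≤ U) : U.ι ''ᵁ U.ι ⁻¹ᵁ V = V := by
  rw [Scheme.Hom.image_preimage_eq_opensRange_inf, Scheme.Opens.opensRange_ι, inf_eq_right.2 h]

theorem Off.of_iso {U : X.Opens} {A B : QCohCat.QCoh X} (e : A ≅ B) (h : Off U A) : Off U B :=
  ((QCoh.support_eq_of_iso ((QCohCat.isQCoh X).ι.mapIso e)).symm.subset).trans h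

theorem off_of_isZero_restrict {U : X.Opens} {E : QCohCat.QCoh X}
    (h : IsZero ((Scheme.Modules.restrictFunctor U.ι).obj E.obj)) : Off U E := by
  refine off_of_subsingleton fun W hW => ?_
  have h1 : ∀ t : Γ(E.obj, U.ι ''ᵁ U.ι ⁻¹ᵁ W), t = 0 := fun t =>
    congr($(congrArg (fun φ => Scheme.Modules.Hom.app φ (U.ι ⁻¹ᵁ W)) (h.eq_of_src (𝟙 _) 0)) t)
  rw [image_preimage_eq_of_le hW] at h1
  exact subsingleton_of_forall_eq 0 h1

theorem Off.isZero_restrict {U : X.Opens} {E : QCohCat.QCoh X} (h : Off U E) :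
    IsZero ((Scheme.Modules.restrictFunctor U.ι).obj E.obj) := by
  rw [IsZero.iff_id_eq_zero]
  refine AffHom.hom_ext fun W m => ?_
  have : Subsingleton Γ(E.obj, U.ι ''ᵁ W.1) := h.subsingleton (U.ι_image_le W.1)
  exact @Subsingleton.elim _ this _ _

/-- A map with kernel and cokernel off `U` is invertible on `U`. -/
theorem isIso_restrict_of_off {U : X.Opens} {A B : QCohCat.QCoh X} (f : A ⟶ B) (hk : Off U (kernel f))
    (hc : Off U (cokernel f)) : IsIso ((Scheme.Modules.restrictFunctor U.ι).map f.hom) := by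
  let R := Scheme.Modules.restrictFunctor U.ι
  let G := (QCohCat.isQCoh X).ι ⋙ R
  haveI := QCohCat20.preservesFiniteLimits_ι (X := X)
  haveI := FunMor20.preservesFiniteColimits_ι X
  haveI : PreservesFiniteLimits R := by
    haveI : PreservesLimitsOfSize.{0, 0} R := (CxOX.extZeroAdj U.ι).rightAdjoint_preservesLimits
    exact PreservesLimitsOfSize.preservesFiniteLimits.{0, 0} _
  haveI : PreservesFiniteColimits R := by
    haveI : PreservesColimitsOfSize.{0, 0} R := (Scheme.Modules.restrictAdjunction U.ι).leftAdjoint_preservesColimits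
    exact PreservesColimitsOfSize.preservesFiniteColimits.{0, 0} _
  haveI : PreservesFiniteLimits G := comp_preservesFiniteLimits _ R
  haveI : PreservesFiniteColimits G := comp_preservesFiniteColimits _ R
  haveI : G.Additive := inferInstance
  haveI : Mono (G.map f) := Preadditive.mono_of_kernel_zero
    ((hk.isZero_restrict.of_iso (PreservesKernel.iso G f).symm).eq_of_src _ _)
  haveI : Epi (G.map f) := Preadditive.epi_of_cokernel_zero
    ((hc.isZero_restrict.of_iso (PreservesCokernel.iso G f).symm).eq_of_tgt _ _)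
  exact isIso_of_mono_of_epi (G.map f)

/-- Local objects. -/
def Closed (U : X.Opens) (M : QCohCat.QCoh X) : Prop :=
  ∀ ⦃A B : QCohCat.QCoh X⦄ (f : A ⟶ B), Off U (kernel f) → Off U (cokernel f) →
    Function.Bijective (fun g : B ⟶ M => f ≫ g)

theorem Closed.mono {U V : X.Opens} (hle : V ≤ U) {M : QCohCat.QCoh X} (h : Closed V M) : Closed U M :=
  fun A B f hk hc => h f (hk.mono hle) (hc.mono hle)

variable [QuasiSeparatedSpace X]

theorem quasiCompact_ι {U : X.Opens} (hU : IsCompact (U : Set X)) : QuasiCompact U.ι := by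
  refine ⟨fun K hKo hKc => ?_⟩
  rw [U.ι.isOpenEmbedding.isInducing.isCompact_iff, Set.image_preimage_eq_inter_range, Scheme.Opens.range_ι]
  exact QuasiSeparatedSpace.inter_isCompact _ _ hKo hKc U.isOpen hU

variable {U : X.Opens} (hU : IsCompact (U : Set X))

include hU in
theorem isQCoh_loc (M : QCohCat.QCoh X) :
    QCohCat.isQCoh X ((Scheme.Modules.pushforward U.ι).obj ((Scheme.Modules.restrictFunctor U.ι).obj M.obj)) := by
  haveI := quasiCompact_ι hU
  haveI : M.obj.IsQuasicoherent := M.property
  haveI : ((Scheme.Modules.pullback U.ι).obj M.obj).IsQuasicoherent := FittSheaf.isQuasicoherent_pullback U.ι M.obj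
  haveI : ((Scheme.Modules.restrictFunctor U.ι).obj M.obj).IsQuasicoherent :=
    QCoh.isQuasicoherent_of_iso ((Scheme.Modules.restrictFunctorIsoPullback U.ι).app M.obj).symm
  exact QCoh.isQuasicoherent_pushforward U.ι _

/-- Extension of the restriction to `U`. -/
def loc (M : QCohCat.QCoh X) : QCohCat.QCoh X := ⟨_, isQCoh_loc hU M⟩

/-- The unit. -/
def locUnit (M : QCohCat.QCoh X) : M ⟶ loc hU M :=
  ObjectProperty.homMk ((Scheme.Modules.restrictAdjunction U.ι).unit.app M.obj)

theorem bijective_adj {A : X.Modules} {B : X.Modules} (f : A ⟶ B) (N : (U : Scheme.{u}).Modules)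
    [IsIso ((Scheme.Modules.restrictFunctor U.ι).map f)] :
    Function.Bijective (fun g : B ⟶ (Scheme.Modules.pushforward U.ι).obj N => f ≫ g) := by
  let adj := Scheme.Modules.restrictAdjunction U.ι
  let e : (B ⟶ (Scheme.Modules.pushforward U.ι).obj N) ≃ (A ⟶ (Scheme.Modules.pushforward U.ι).obj N) :=
    (adj.homEquiv B N).symm.trans ((Iso.homCongr (asIso ((Scheme.Modules.restrictFunctor U.ι).map f)).symm (Iso.refl N)).trans
      (adj.homEquiv A N))
  have he : (e : _ → _) = fun g => f ≫ g := funext fun g => by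
    apply (adj.homEquiv A N).symm.injective
    simp [e, Iso.homCongr, Adjunction.homEquiv_naturality_left_symm]
  exact he ▸ e.bijective

theorem closed_loc (M : QCohCat.QCoh X) : Closed U (loc hU M) := fun A B f hk hc => by
  haveI := isIso_restrict_of_off f hk hc
  obtain ⟨hi, hs⟩ := bijective_adj f.hom ((Scheme.Modules.restrictFunctor U.ι).obj M.obj)
  refine ⟨fun g g' hgg => ObjectProperty.hom_ext _ (hi (congrArg InducedCategory.Hom.hom hgg)), fun g => ?_⟩
  obtain ⟨g₀, hg₀⟩ := hs g.hom
  exact ⟨ObjectProperty.homMk g₀, ObjectProperty.hom_ext _ hg₀⟩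

theorem isIso_restrict_locUnit (M : QCohCat.QCoh X) :
    IsIso ((Scheme.Modules.restrictFunctor U.ι).map (locUnit hU M).hom) := by
  let adj := Scheme.Modules.restrictAdjunction U.ι
  have h1 : IsIso (adj.counit.app ((Scheme.Modules.restrictFunctor U.ι).obj M.obj)) := inferInstance
  have h2 := adj.left_triangle_components M.obj
  exact @IsIso.of_isIso_fac_right _ _ _ _ _ _ _ _ h1 inferInstance h2

theorem off_kernel_locUnit (M : QCohCat.QCoh X) : Off U (kernel (locUnit hU M)) ∧ Off U (cokernel (locUnit hU M)) := by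
  haveI := isIso_restrict_locUnit hU M
  let R := Scheme.Modules.restrictFunctor U.ι
  let G := (QCohCat.isQCoh X).ι ⋙ R
  haveI := QCohCat20.preservesFiniteLimits_ι (X := X)
  haveI := FunMor20.preservesFiniteColimits_ι X
  haveI : PreservesFiniteLimits R :=
    haveI : PreservesLimitsOfSize.{0, 0} R := (CxOX.extZeroAdj U.ι).rightAdjoint_preservesLimits
    PreservesLimitsOfSize.preservesFiniteLimits.{0, 0} _
  haveI : PreservesFiniteColimits R := by
    haveI : PreservesColimitsOfSize.{0, 0} R := (Scheme.Modules.restrictAdjunction U.ι).leftAdjoint_preservesColimits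
    exact PreservesColimitsOfSize.preservesFiniteColimits.{0, 0} _
  haveI : PreservesFiniteLimits G := comp_preservesFiniteLimits _ R
  haveI : PreservesFiniteColimits G := comp_preservesFiniteColimits _ R
  haveI : G.Additive := inferInstance
  haveI hi : IsIso (G.map (locUnit hU M)) := isIso_restrict_locUnit hU M
  exact ⟨off_of_isZero_restrict ((isZero_kernel_of_mono (G.map (locUnit hU M))).of_iso (PreservesKernel.iso G _)),
    off_of_isZero_restrict ((isZero_cokernel_of_epi (G.map (locUnit hU M))).of_iso (PreservesCokernel.iso G _))⟩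

theorem Closed.isIso_locUnit {M : QCohCat.QCoh X} (h : Closed U M) : IsIso (locUnit hU M) := by
  obtain ⟨hk, hc⟩ := off_kernel_locUnit hU M
  obtain ⟨r, hr⟩ := (h (locUnit hU M) hk hc).2 (𝟙 M)
  have hr' : locUnit hU M ≫ r = 𝟙 M := hr
  refine ⟨r, hr', (closed_loc hU M (locUnit hU M) hk hc).1 ?_⟩
  show locUnit hU M ≫ r ≫ locUnit hU M = locUnit hU M ≫ 𝟙 _
  rw [← Category.assoc, hr', Category.id_comp, Category.comp_id]

theorem locUnit_app (M : QCohCat.QCoh X) (W : X.Opens) :
    (locUnit hU M).hom.app W = M.obj.presheaf.map (homOfLE (U.ι.image_preimage_le W)).op := rfl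

theorem bijective_locUnit_app (M : QCohCat.QCoh X) {W : X.Opens} (hW : W ≤ U) :
    Function.Bijective ((locUnit hU M).hom.app W) := by
  rw [locUnit_app]
  exact bijective_map_of_eq M.obj _ (image_preimage_eq_of_le hW)

include hU in
/-- Maps into a local object are determined on `U`. -/
theorem Closed.hom_ext {M N : QCohCat.QCoh X} (hN : Closed U N) {g g' : M ⟶ N}
    (h : ∀ (V : X.Opens), IsAffineOpen V → V ≤ U → ∀ m : Γ(M.obj, V), g.hom.app V m = g'.hom.app V m) : g = g' := by
  haveI := hN.isIso_locUnit hU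
  have hR : (Scheme.Modules.restrictFunctor U.ι).map g.hom = (Scheme.Modules.restrictFunctor U.ι).map g'.hom :=
    AffHom.hom_ext fun W m => h (U.ι ''ᵁ W.1) (W.2.image_of_isOpenImmersion U.ι) (U.ι_image_le W.1) m
  rw [← cancel_mono (locUnit hU N)]
  refine ObjectProperty.hom_ext _ ?_
  show g.hom ≫ (Scheme.Modules.restrictAdjunction U.ι).unit.app N.obj =
    g'.hom ≫ (Scheme.Modules.restrictAdjunction U.ι).unit.app N.obj
  have n1 := (Scheme.Modules.restrictAdjunction U.ι).unit.naturality g.hom
  have n2 := (Scheme.Modules.restrictAdjunction U.ι).unit.naturality g'.hom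
  simp only [Functor.id_map, Functor.comp_map] at n1 n2
  rw [n1, n2, hR]

include hU in
/-- Global sections of a local object are sections over `U`. -/
theorem Closed.bijective_res {M : QCohCat.QCoh X} (h : Closed U M) {W : X.Opens} (hW : W = U) :
    Function.Bijective (M.obj.presheaf.map (homOfLE (le_top : W ≤ ⊤)).op) := by
  haveI := h.isIso_locUnit hU
  haveI : IsIso (locUnit hU M).hom := inferInstanceAs (IsIso ((QCohCat.isQCoh X).ι.map (locUnit hU M)))
  have hiso : ∀ V, Function.Bijective ((locUnit hU M).hom.app V) := fun V =>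
    ConcreteCategory.bijective_of_isIso ((locUnit hU M).hom.app V)
  have hres : Function.Bijective ((loc hU M).obj.presheaf.map (homOfLE (le_top : W ≤ ⊤)).op) :=
    bijective_map_of_eq M.obj (U.ι.image_mono (U.ι.preimage_mono le_top)) (by
      rw [Scheme.Hom.preimage_top, Scheme.Opens.ι_image_top, hW, image_preimage_eq_of_le le_rfl])
  have hcomp : (locUnit hU M).hom.app W ∘ M.obj.presheaf.map (homOfLE (le_top : W ≤ ⊤)).op =
      (loc hU M).obj.presheaf.map (homOfLE (le_top : W ≤ ⊤)).op ∘ (locUnit hU M).hom.app ⊤ :=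
    funext fun m => map_app_apply (locUnit hU M).hom _ m
  exact ((hiso W).of_comp_iff' _).1 (hcomp ▸ hres.comp (hiso ⊤))

/-- Acting by a function on `U`. -/
def ActsBy (U : X.Opens) {M : QCohCat.QCoh X} (s : Γ(X, U)) (e : M ⟶ M) : Prop :=
  ∀ (V : X.Opens) (h : V ≤ U) (m : Γ(M.obj, V)), e.hom.app V m = X.presheaf.map (homOfLE h).op s • m

theorem ActsBy.restrict {U V : X.Opens} (h : V ≤ U) {M : QCohCat.QCoh X} {s : Γ(X, U)} {e : M ⟶ M}
    (he : ActsBy U s e) : ActsBy V (X.presheaf.map (homOfLE h).op s) e := fun W hW m => by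
  rw [he W (hW.trans h) m, ← ConcreteCategory.comp_apply, ← Functor.map_comp]
  rfl

theorem ActsBy.comp {U : X.Opens} {M : QCohCat.QCoh X} {s t : Γ(X, U)} {e f : M ⟶ M} (he : ActsBy U s e)
    (hf : ActsBy U t f) : ActsBy U (s * t) (e ≫ f) := fun V h m => by
  change f.hom.app V (e.hom.app V m) = _
  rw [hf V h, he V h, smul_smul, map_mul, mul_comm]

theorem ActsBy.add {U : X.Opens} {M : QCohCat.QCoh X} {s t : Γ(X, U)} {e f : M ⟶ M} (he : ActsBy U s e)
    (hf : ActsBy U t f) : ActsBy U (s + t) (e + f) := fun V h m => by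
  change e.hom.app V m + f.hom.app V m = _
  rw [hf V h, he V h, map_add, add_smul]

theorem actsBy_one (U : X.Opens) (M : QCohCat.QCoh X) : ActsBy U (1 : Γ(X, U)) (𝟙 M) := fun V h m => by
  rw [map_one, one_smul]
  rfl

theorem ActsBy.natural {U : X.Opens} (hU : IsCompact (U : Set X)) {M N : QCohCat.QCoh X} (hN : Closed U N) {s : Γ(X, U)}
    {e : M ⟶ M} {f : N ⟶ N} (he : ActsBy U s e) (hf : ActsBy U s f) (g : M ⟶ N) : e ≫ g = g ≫ f := by
  refine hN.hom_ext hU fun V _ hV m => ?_
  change g.hom.app V (e.hom.app V m) = f.hom.app V (g.hom.app V m)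
  rw [he V hV, hf V hV]
  exact Scheme.Modules.Hom.app_smul g.hom _ m

include hU in
theorem ActsBy.unique {M : QCohCat.QCoh X} (hM : Closed U M) {s : Γ(X, U)} {e e' : M ⟶ M} (he : ActsBy U s e)
    (he' : ActsBy U s e') : e = e' :=
  hM.hom_ext hU fun V _ hV m => (he V hV m).trans (he' V hV m).symm

include hU in
theorem exists_actsBy {M : QCohCat.QCoh X} (hM : Closed U M) (s : Γ(X, U)) : ∃ e : M ⟶ M, ActsBy U s e := by
  haveI := hM.isIso_locUnit hU
  let R := Scheme.Modules.restrictFunctor U.ι
  let s' : Γ((U : Scheme.{u}), ⊤) := X.presheaf.map (homOfLE U.ι_image_top.le).op s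
  let φ : R.obj M.obj ⟶ R.obj M.obj := Formal.smulModΓ (R.obj M.obj) s'
  let φ' : loc hU M ⟶ loc hU M :=
    ObjectProperty.homMk (show (loc hU M).obj ⟶ (loc hU M).obj from (Scheme.Modules.pushforward U.ι).map φ)
  let e : M ⟶ M := locUnit hU M ≫ φ' ≫ inv (locUnit hU M)
  have hRe : R.map e.hom = φ := by
    have h1 : e ≫ locUnit hU M = locUnit hU M ≫ φ' := by
      simp [e]
    have h2 : R.map e.hom ≫ R.map ((Scheme.Modules.restrictAdjunction U.ι).unit.app M.obj) =
        R.map ((Scheme.Modules.restrictAdjunction U.ι).unit.app M.obj) ≫ R.map ((Scheme.Modules.pushforward U.ι).map φ) := by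
      rw [← R.map_comp, ← R.map_comp]
      exact congrArg R.map (congrArg InducedCategory.Hom.hom h1)
    have h3 := congrArg (fun t => t ≫ (Scheme.Modules.restrictAdjunction U.ι).counit.app (R.obj M.obj)) h2
    have tri := (Scheme.Modules.restrictAdjunction U.ι).left_triangle_components M.obj
    have nat := (Scheme.Modules.restrictAdjunction U.ι).counit.naturality φ
    simp only [Category.assoc, Functor.comp_map, Functor.id_map] at h3 nat
    erw [tri, nat, reassoc_of% tri] at h3
    exact (Category.comp_id _).symm.trans h3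
  refine ⟨e, fun V hV m => ?_⟩
  have key : ∀ (W : (U : Scheme.{u}).Opens) (m : Γ(M.obj, U.ι ''ᵁ W)),
      e.hom.app (U.ι ''ᵁ W) m = X.presheaf.map (homOfLE (U.ι_image_le W)).op s • m := fun W m => by
    refine (congrArg (fun t => Scheme.Modules.Hom.app t W m) hRe).trans ?_
    change (U.ι.appIso W).inv ((U : Scheme.{u}).presheaf.map (homOfLE (le_top : W ≤ ⊤)).op s') • (show Γ(M.obj, U.ι ''ᵁ W) from m) = _
    rw [Scheme.Opens.ι_appIso]
    refine congrArg (· • m) ?_
    show X.presheaf.map (homOfLE (U.ι.image_mono (le_top : W ≤ ⊤))).op (X.presheaf.map (homOfLE U.ι_image_top.le).op s) = _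
    rw [← ConcreteCategory.comp_apply, ← Functor.map_comp]
    rfl
  revert m
  obtain ⟨W, rfl⟩ : ∃ W : (U : Scheme.{u}).Opens, U.ι ''ᵁ W = V := ⟨_, image_preimage_eq_of_le hV⟩
  exact key W

section Center

variable (z : ∀ M : QCohCat.QCoh X, Closed U M → (M ⟶ M))
  (hnat : ∀ (M N : QCohCat.QCoh X) (hM : Closed U M) (hN : Closed U N) (g : M ⟶ N), z M hM ≫ g = g ≫ z N hN)

include hU hnat in
/-- A natural family of endomorphisms of local objects comes from a unique function on `U`. -/
theorem existsUnique_center : ∃! s : Γ(X, U), ∀ M (hM : Closed U M), ActsBy U s (z M hM) := by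
  let O := FunMor20.qO X
  let OU := loc hU O
  have hOU : Closed U OU := closed_loc hU O
  let one' : ∀ V : X.Opens, Γ(O.obj, V) := fun V => FinCov.one X V
  have hone : ∀ (V : X.Opens) (r : Γ(X, V)), r • one' V = (show Γ(O.obj, V) from r) := fun V r => mul_one r
  obtain ⟨s, hs⟩ := (bijective_locUnit_app hU O le_rfl).2 ((z OU hOU).hom.app U ((locUnit hU O).hom.app U (one' U)))
  let σ : Γ(X, U) := s
  refine ⟨σ, fun M hM => ?_, fun s' hs' => ?_⟩
  · obtain ⟨e, he⟩ := exists_actsBy hU hM σ
    suffices z M hM = e by rw [this]; exact he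
    refine hM.hom_ext hU fun W hW hWU m => ?_
    have hWc : IsCompact (W : Set X) := hW.isCompact
    let OW := loc hWc O
    have hOW : Closed U OW := Closed.mono hWU (closed_loc hWc O)
    let MW := loc hWc M
    have hMW : Closed U MW := Closed.mono hWU (closed_loc hWc M)
    obtain ⟨hk, hc⟩ := off_kernel_locUnit hU O
    obtain ⟨r, hr⟩ := (hOW (locUnit hU O) hk hc).2 (locUnit hWc O)
    have hr' : locUnit hU O ≫ r = locUnit hWc O := hr
    let μ := locUnit hWc M
    obtain ⟨m₀, hm₀⟩ := (Closed.bijective_res hWc (closed_loc hWc M) (W := W) rfl).2 (μ.hom.app W m)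
    let g₀ : O ⟶ MW := ObjectProperty.homMk (FinCov.homOfSection m₀)
    obtain ⟨hk', hc'⟩ := off_kernel_locUnit hWc O
    obtain ⟨g, hg⟩ := (closed_loc hWc M (locUnit hWc O) hk' hc').2 g₀
    have hg' : locUnit hWc O ≫ g = g₀ := hg
    have hg1 : g.hom.app W ((locUnit hWc O).hom.app W (one' W)) = μ.hom.app W m := by
      refine (congrArg (fun t : O ⟶ MW => t.hom.app W (one' W)) hg').trans ?_
      exact (FinCov.homOfSection_one m₀ W).trans hm₀
    have hres : one' W = O.obj.presheaf.map (homOfLE hWU).op (one' U) := (map_one (X.presheaf.map (homOfLE hWU).op).hom).symm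
    have hz1 : (z OW hOW).hom.app W ((locUnit hWc O).hom.app W (one' W)) =
        X.presheaf.map (homOfLE hWU).op σ • (locUnit hWc O).hom.app W (one' W) := by
      have h1 : (locUnit hWc O).hom.app W (one' W) = r.hom.app W ((locUnit hU O).hom.app W (one' W)) :=
        (congrArg (fun t : O ⟶ OW => t.hom.app W (one' W)) hr').symm
      have h2 : (z OW hOW).hom.app W (r.hom.app W ((locUnit hU O).hom.app W (one' W))) =
          r.hom.app W ((z OU hOU).hom.app W ((locUnit hU O).hom.app W (one' W))) :=
        (congrArg (fun t : OU ⟶ OW => t.hom.app W ((locUnit hU O).hom.app W (one' W))) (hnat OU OW hOU hOW r)).symm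
      have h3 : (z OU hOU).hom.app W ((locUnit hU O).hom.app W (one' W)) =
          (locUnit hU O).hom.app W (X.presheaf.map (homOfLE hWU).op σ • one' W) := by
        rw [hres, map_app_apply (locUnit hU O).hom hWU, map_app_apply (z OU hOU).hom hWU, ← hs,
          ← map_app_apply (locUnit hU O).hom hWU, ← hres, hone]
        rfl
      rw [h1, h2, h3, Scheme.Modules.Hom.app_smul, Scheme.Modules.Hom.app_smul]
    apply (bijective_locUnit_app hWc M le_rfl).1
    change μ.hom.app W ((z M hM).hom.app W m) = μ.hom.app W (e.hom.app W m)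
    rw [he W hWU m, Scheme.Modules.Hom.app_smul]
    refine (congrArg (fun t : M ⟶ MW => t.hom.app W m) (hnat M MW hM hMW μ)).trans ?_
    change (z MW hMW).hom.app W (μ.hom.app W m) = _
    rw [← hg1]
    refine (congrArg (fun t : OW ⟶ MW => t.hom.app W ((locUnit hWc O).hom.app W (one' W))) (hnat OW MW hOW hMW g)).symm.trans ?_
    change g.hom.app W ((z OW hOW).hom.app W _) = _
    rw [hz1, Scheme.Modules.Hom.app_smul]
  · have h := hs' OU hOU U le_rfl ((locUnit hU O).hom.app U (one' U))
    rw [← hs, ← Scheme.Modules.Hom.app_smul] at h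
    have h2 := (bijective_locUnit_app hU O le_rfl).1 h
    rw [hone] at h2
    have h3 : X.presheaf.map (homOfLE (le_refl U)).op s' = s' := by
      exact congrArg (fun φ : Γ(X, U) ⟶ Γ(X, U) => φ s') (X.presheaf.map_id (op U))
    exact h3.symm.trans h2.symm

end Center

end GrothLib.GabRos20
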