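import Mathlib.Topology.QuasiSeparated
import Mathlib.Topology.Sober
import Mathlib.Topology.Sets.Opens

/-!
# Recovering a spectral space from its quasi-compact opens
-/

set_option autoImplicit false

universe u v

open TopologicalSpace Set

namespace GrothLib.GabRos20

variable {α : Type u} {β : Type v} [TopologicalSpace α] [TopologicalSpace β]

/-- The quasi-compact opens. -/
abbrev QC (α : Type u) [TopologicalSpace α] := {U : Opens α // IsCompact (U : Set α)}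

variable [QuasiSeparatedSpace α] [QuasiSeparatedSpace β] [QuasiSober β] [T0Space β]
  (hbα : Opens.IsBasis {U : Opens α | IsCompact (U : Set α)}) (hbβ : Opens.IsBasis {U : Opens β | IsCompact (U : Set β)})

include hbβ in
theorem exists_point (σ : QC α ≃o QC β) (x : α) (hx : ∃ U : QC α, x ∈ U.1) :
    ∃ y : β, ∀ U : QC α, y ∈ (σ U).1 ↔ x ∈ U.1 := by
  classical
  let A := {U : QC α // x ∉ U.1}
  let O : Opens β := ⨆ U : A, (σ U.1).1
  have key : ∀ U : QC α, (σ U).1 ≤ O → x ∉ U.1 := by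
    intro U hle hxU
    obtain ⟨s, hs⟩ := (σ U).2.elim_finite_subcover (fun W : A => ((σ W.1).1 : Set β)) (fun W => (σ W.1).1.isOpen)
      (fun b hb => by simpa [O] using hle hb)
    let W₀ : QC α := ⟨⟨⋃ W ∈ s, (W.1.1 : Set α), isOpen_biUnion fun W _ => W.1.1.isOpen⟩,
      s.isCompact_biUnion fun W _ => W.1.2⟩
    have h1 : σ U ≤ σ W₀ := fun b hb => by
      obtain ⟨W, hW, hbW⟩ := mem_iUnion₂.1 (hs hb)
      have hle' : W.1 ≤ W₀ := fun a ha => mem_biUnion hW ha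
      exact σ.monotone hle' hbW
    obtain ⟨W, -, hxW⟩ := mem_iUnion₂.1 ((σ.le_iff_le.1 h1) hxU : x ∈ W₀.1)
    exact W.2 hxW
  have key' : ∀ U : QC α, x ∈ U.1 → ∃ b ∈ (σ U).1, b ∈ (O : Set β)ᶜ := fun U hU => by
    by_contra hne
    push Not at hne
    exact key U (fun b hb => not_not.1 (hne b hb)) hU
  obtain ⟨U₀, hU₀⟩ := hx
  have hirr : IsIrreducible ((O : Set β)ᶜ) := by
    refine ⟨(key' U₀ hU₀).imp fun b hb => hb.2, ?_⟩
    intro W₁ W₂ hW₁ hW₂ ⟨b₁, hb₁, hb₁'⟩ ⟨b₂, hb₂, hb₂'⟩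
    obtain ⟨V₁, hV₁, hbV₁, hle₁⟩ := Opens.isBasis_iff_nbhd.1 hbβ (show b₁ ∈ (⟨W₁, hW₁⟩ : Opens β) from hb₁')
    obtain ⟨V₂, hV₂, hbV₂, hle₂⟩ := Opens.isBasis_iff_nbhd.1 hbβ (show b₂ ∈ (⟨W₂, hW₂⟩ : Opens β) from hb₂')
    let U₁ := σ.symm ⟨V₁, hV₁⟩
    let U₂ := σ.symm ⟨V₂, hV₂⟩
    have hx₁ : x ∈ U₁.1 := by
      by_contra h
      refine hb₁ (Opens.mem_iSup.2 ⟨⟨U₁, h⟩, ?_⟩)
      simpa [U₁] using hbV₁
    have hx₂ : x ∈ U₂.1 := by
      by_contra h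
      refine hb₂ (Opens.mem_iSup.2 ⟨⟨U₂, h⟩, ?_⟩)
      simpa [U₂] using hbV₂
    let U : QC α := ⟨U₁.1 ⊓ U₂.1, QuasiSeparatedSpace.inter_isCompact _ _ U₁.1.2 U₁.2 U₂.1.2 U₂.2⟩
    obtain ⟨b, hb, hbO⟩ := key' U ⟨hx₁, hx₂⟩
    have h1 : σ U ≤ σ U₁ := σ.monotone fun a ha => ha.1
    have h2 : σ U ≤ σ U₂ := σ.monotone fun a ha => ha.2
    refine ⟨b, hbO, hle₁ ?_, hle₂ ?_⟩
    · simpa [U₁] using h1 hb
    · simpa [U₂] using h2 hb
  obtain ⟨y, hy⟩ := QuasiSober.sober hirr O.isOpen.isClosed_compl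
  refine ⟨y, fun U => ⟨fun hyU => ?_, fun hxU => ?_⟩⟩
  · by_contra hxU
    exact hy.mem (Opens.mem_iSup.2 ⟨⟨U, hxU⟩, hyU⟩)
  · exact hy.mem_open_set_iff (σ U).1.isOpen |>.2 ((key' U hxU).imp fun b hb => ⟨hb.2, hb.1⟩)

include hbα hbβ in
/-- An order isomorphism of quasi-compact opens comes from a homeomorphism. -/
theorem exists_homeomorph [QuasiSober α] [T0Space α] (σ : QC α ≃o QC β) :
    ∃ e : α ≃ₜ β, ∀ (U : QC α) (x : α), e x ∈ (σ U).1 ↔ x ∈ U.1 := by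
  have hcα : ∀ x : α, ∃ U : QC α, x ∈ U.1 := fun x => by
    obtain ⟨U, hU, hxU, -⟩ := Opens.isBasis_iff_nbhd.1 hbα (Opens.mem_top x)
    exact ⟨⟨U, hU⟩, hxU⟩
  have hcβ : ∀ y : β, ∃ U : QC β, y ∈ U.1 := fun y => by
    obtain ⟨U, hU, hxU, -⟩ := Opens.isBasis_iff_nbhd.1 hbβ (Opens.mem_top y)
    exact ⟨⟨U, hU⟩, hxU⟩
  choose f hf using fun x => exists_point hbβ σ x (hcα x)
  choose g hg using fun y => exists_point hbα σ.symm y (hcβ y)
  have hg' : ∀ (y : β) (U : QC α), g y ∈ U.1 ↔ y ∈ (σ U).1 := fun y U => by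
    have := hg y (σ U)
    rwa [σ.symm_apply_apply] at this
  have extα : ∀ a a' : α, (∀ U : QC α, a ∈ U.1 ↔ a' ∈ U.1) → a = a' := fun a a' h => by
    refine (inseparable_iff_forall_isOpen.2 fun s hs => ⟨fun has => ?_, fun has => ?_⟩).eq
    · obtain ⟨U, hU, haU, hUs⟩ := Opens.isBasis_iff_nbhd.1 hbα (show a ∈ (⟨s, hs⟩ : Opens α) from has)
      exact hUs ((h ⟨U, hU⟩).1 haU)
    · obtain ⟨U, hU, haU, hUs⟩ := Opens.isBasis_iff_nbhd.1 hbα (show a' ∈ (⟨s, hs⟩ : Opens α) from has)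
      exact hUs ((h ⟨U, hU⟩).2 haU)
  have extβ : ∀ a a' : β, (∀ U : QC β, a ∈ U.1 ↔ a' ∈ U.1) → a = a' := fun a a' h => by
    refine (inseparable_iff_forall_isOpen.2 fun s hs => ⟨fun has => ?_, fun has => ?_⟩).eq
    · obtain ⟨U, hU, haU, hUs⟩ := Opens.isBasis_iff_nbhd.1 hbβ (show a ∈ (⟨s, hs⟩ : Opens β) from has)
      exact hUs ((h ⟨U, hU⟩).1 haU)
    · obtain ⟨U, hU, haU, hUs⟩ := Opens.isBasis_iff_nbhd.1 hbβ (show a' ∈ (⟨s, hs⟩ : Opens β) from has)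
      exact hUs ((h ⟨U, hU⟩).2 haU)
  let e : α ≃ β :=
    { toFun := f
      invFun := g
      left_inv := fun x => extα _ _ fun U => (hg' _ U).trans (hf x U)
      right_inv := fun y => extβ _ _ fun V => by
        obtain ⟨U, rfl⟩ := σ.surjective V
        exact (hf _ U).trans (hg' y U) }
  have hcont : Continuous f := continuous_def.2 fun s hs => by
    refine isOpen_iff_forall_mem_open.2 fun x hx => ?_
    obtain ⟨V, hV, hxV, hVs⟩ := Opens.isBasis_iff_nbhd.1 hbβ (show f x ∈ (⟨s, hs⟩ : Opens β) from hx)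
    obtain ⟨U, hU⟩ := σ.surjective ⟨V, hV⟩
    exact ⟨U.1, fun a ha => hVs (by have := (hf a U).2 ha; rwa [hU] at this), U.1.isOpen,
      (hf x U).1 (by rw [hU]; exact hxV)⟩
  have hcont' : Continuous g := continuous_def.2 fun s hs => by
    refine isOpen_iff_forall_mem_open.2 fun y hy => ?_
    obtain ⟨U, hU, hyU, hUs⟩ := Opens.isBasis_iff_nbhd.1 hbα (show g y ∈ (⟨s, hs⟩ : Opens α) from hy)
    exact ⟨(σ ⟨U, hU⟩).1, fun b hb => hUs ((hg' b ⟨U, hU⟩).2 hb), (σ ⟨U, hU⟩).1.isOpen, (hg' y ⟨U, hU⟩).1 hyU⟩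
  exact ⟨{ e with continuous_toFun := hcont, continuous_invFun := hcont' }, fun U x => hf x U⟩

end GrothLib.GabRos20
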