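import Groth.Agent.Lib.GabRos20.Closed
import Groth.Agent.Lib.GabRos20.Homeo

/-!
# Opens matched by an equivalence of quasi-coherent modules
-/

set_option autoImplicit false
set_option linter.style.haveILetI false
set_option linter.style.longLine false
set_option linter.unusedSectionVars false
set_option maxHeartbeats 1000000
set_option backward.isDefEq.respectTransparency.types false

universe u

open CategoryTheory CategoryTheory.Limits AlgebraicGeometry Opposite TopologicalSpace

noncomputable section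

namespace GrothLib.GabRos20

variable {X Y : Scheme.{u}}

theorem Closed.of_iso {U : X.Opens} {M N : QCohCat.QCoh X} (e : M ≅ N) (h : Closed U M) : Closed U N :=
  fun A B f hk hc => by
  refine ⟨fun g g' hgg => ?_, fun g => ?_⟩
  · have h1 : g ≫ e.inv = g' ≫ e.inv := (h f hk hc).1 (by
      simp only at hgg ⊢
      rw [← Category.assoc, hgg, Category.assoc])
    exact (cancel_mono e.inv).1 h1
  · obtain ⟨g₀, hg₀⟩ := (h f hk hc).2 (g ≫ e.inv)
    refine ⟨g₀ ≫ e.hom, ?_⟩
    simp only at hg₀ ⊢
    rw [← Category.assoc, hg₀, Category.assoc, e.inv_hom_id, Category.comp_id]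

theorem ActsBy.of_iso {U : X.Opens} {M N : QCohCat.QCoh X} {t : Γ(X, U)} {e : M ⟶ M} (g : M ≅ N)
    (h : ActsBy U t e) : ActsBy U t (g.inv ≫ e ≫ g.hom) := fun V hV m => by
  change g.hom.hom.app V (e.hom.app V (g.inv.hom.app V m)) = _
  rw [h V hV, Scheme.Modules.Hom.app_smul]
  exact congrArg _ (congrArg (fun φ : N ⟶ N => φ.hom.app V m) g.inv_hom_id)

theorem eq_of_forall_actsBy [QuasiSeparatedSpace X] {U : X.Opens} (hU : IsCompact (U : Set X)) {s s' : Γ(X, U)}
    (h : ∀ (M : QCohCat.QCoh X), Closed U M → ∀ e : M ⟶ M, ActsBy U s e → ActsBy U s' e) : s = s' := by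
  choose z hz using fun (M : QCohCat.QCoh X) (hM : Closed U M) => exists_actsBy hU hM s
  obtain ⟨s₀, -, huniq⟩ := existsUnique_center hU z fun M N hM hN g => (hz M hM).natural hU hN (hz N hN) g
  exact (huniq s hz).trans (huniq s' fun M hM => h M hM _ (hz M hM)).symm

/-- Opens whose modules supported outside correspond. -/
structure Matched (Φ : QCohCat.QCoh X ≌ QCohCat.QCoh Y) (U : X.Opens) (V : Y.Opens) : Prop where
  compact_left : IsCompact (U : Set X)
  compact_right : IsCompact (V : Set Y)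
  iff : ∀ E, Off U E ↔ Off V (Φ.functor.obj E)

theorem Matched.off_inverse {Φ : QCohCat.QCoh X ≌ QCohCat.QCoh Y} {U : X.Opens} {V : Y.Opens}
    (h : Matched Φ U V) (E : QCohCat.QCoh Y) : Off V E ↔ Off U (Φ.inverse.obj E) := by
  rw [h.iff]
  exact ⟨fun hE => hE.of_iso (Φ.counitIso.app E).symm, fun hE => hE.of_iso (Φ.counitIso.app E)⟩

theorem Matched.symm {Φ : QCohCat.QCoh X ≌ QCohCat.QCoh Y} {U : X.Opens} {V : Y.Opens}
    (h : Matched Φ U V) : Matched Φ.symm V U :=
  ⟨h.compact_right, h.compact_left, h.off_inverse⟩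

theorem Matched.closed_map {Φ : QCohCat.QCoh X ≌ QCohCat.QCoh Y} {U : X.Opens} {V : Y.Opens}
    (h : Matched Φ U V) {M : QCohCat.QCoh X} (hM : Closed U M) : Closed V (Φ.functor.obj M) := fun A B f hk hc => by
  have hk' : Off U (kernel (Φ.inverse.map f)) :=
    ((h.off_inverse _).1 hk).of_iso (PreservesKernel.iso Φ.inverse f)
  have hc' : Off U (cokernel (Φ.inverse.map f)) :=
    ((h.off_inverse _).1 hc).of_iso (PreservesCokernel.iso Φ.inverse f)
  let adj := Φ.symm.toAdjunction
  obtain ⟨hi, hs⟩ := hM (Φ.inverse.map f) hk' hc'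
  refine ⟨fun g g' hgg => (adj.homEquiv B M).symm.injective (hi ?_), fun g => ?_⟩
  · simp only at hgg ⊢
    exact ((adj.homEquiv_naturality_left_symm f g).symm.trans (congrArg _ hgg)).trans
      (adj.homEquiv_naturality_left_symm f g')
  · obtain ⟨g₀, hg₀⟩ := hs ((adj.homEquiv A M).symm g)
    refine ⟨adj.homEquiv B M g₀, (adj.homEquiv A M).symm.injective ?_⟩
    exact (adj.homEquiv_naturality_left_symm f _).trans ((congrArg _ ((adj.homEquiv B M).symm_apply_apply g₀)).trans hg₀)

variable [CompactSpace X] [QuasiSeparatedSpace X] [CompactSpace Y] [QuasiSeparatedSpace Y]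

theorem isBasis_compact (X : Scheme.{u}) : Opens.IsBasis {U : Opens X | IsCompact (U : Set X)} := by
  rw [Opens.isBasis_iff_nbhd]
  intro U x hx
  obtain ⟨W, hW, hxW, hWU⟩ := exists_isAffineOpen_mem_and_subset (x := x) (U := U) hx
  exact ⟨W, hW.isCompact, hxW, hWU⟩

variable (Φ : QCohCat.QCoh X ≌ QCohCat.QCoh Y)

theorem exists_homeo : ∃ e : X ≃ₜ Y, ∀ (V : Y.Opens), IsCompact (V : Set Y) →
    Matched Φ (⟨e ⁻¹' V, V.isOpen.preimage e.continuous⟩ : X.Opens) V := by
  choose v hv hiff using fun U : QC X => exists_match Φ U.1 U.2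
  have hm : ∀ U, Matched Φ U.1 (v U) := fun U => ⟨U.2, hv U, hiff U⟩
  have hle : ∀ U U' : QC X, v U ≤ v U' ↔ U ≤ U' := fun U U' => by
    refine ⟨fun h => le_of_off U'.2 fun E hE => ?_, fun h => le_of_off (hv U') fun E hE => ?_⟩
    · exact ((hm U).iff E).2 (((hm U').iff E).1 hE |>.mono h)
    · exact ((hm U).off_inverse E).2 (((hm U').off_inverse E).1 hE |>.mono h)
  have hsurj : ∀ V : QC Y, ∃ U : QC X, v U = V.1 := fun V => by
    obtain ⟨U, hU, hUV⟩ := exists_match Φ.symm V.1 V.2
    refine ⟨⟨U, hU⟩, le_antisymm (le_of_off V.2 fun E hE => ?_) (le_of_off (hv _) fun E hE => ?_)⟩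
    · exact ((hm ⟨U, hU⟩).off_inverse E).2 ((hUV E).1 hE)
    · exact (hUV E).2 (((hm ⟨U, hU⟩).off_inverse E).1 hE)
  have hinj : ∀ U U' : QC X, v U = v U' → U = U' := fun U U' h =>
    le_antisymm ((hle U U').1 h.le) ((hle U' U).1 h.ge)
  let σ : QC X ≃o QC Y :=
    { toEquiv := Equiv.ofBijective (fun U => ⟨v U, hv U⟩)
        ⟨fun U U' h => hinj U U' (congrArg Subtype.val h), fun V => (hsurj V).imp fun U h => Subtype.ext h⟩
      map_rel_iff' := fun {U U'} => hle U U' }
  obtain ⟨e, he⟩ := exists_homeomorph (isBasis_compact X) (isBasis_compact Y) σ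
  refine ⟨e, fun V hV => ?_⟩
  obtain ⟨U, hU⟩ := σ.surjective ⟨V, hV⟩
  have h1 : (⟨e ⁻¹' V, V.isOpen.preimage e.continuous⟩ : X.Opens) = U.1 := by
    ext x
    refine Iff.trans ?_ (he U x)
    rw [hU]
    rfl
  rw [h1]
  have h2 : v U = V := congrArg Subtype.val hU
  exact h2 ▸ hm U

/-- A function corresponds to another under the equivalence. -/
def Carries (U : X.Opens) (V : Y.Opens) (s : Γ(X, U)) (t : Γ(Y, V)) : Prop :=
  ∀ M : QCohCat.QCoh X, Closed U M → ∀ e : M ⟶ M, ActsBy U s e → ActsBy V t (Φ.functor.map e)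

variable {Φ} {U : X.Opens} {V : Y.Opens} (h : Matched Φ U V)

include h in
theorem Matched.existsUnique_carries (s : Γ(X, U)) : ∃! t : Γ(Y, V), Carries Φ U V s t := by
  have hU := h.compact_left
  have hclosed : ∀ N : QCohCat.QCoh Y, Closed V N → Closed U (Φ.inverse.obj N) := fun N hN => h.symm.closed_map hN
  choose a ha using fun (N : QCohCat.QCoh Y) (hN : Closed V N) => exists_actsBy hU (hclosed N hN) s
  let z : ∀ N, Closed V N → (N ⟶ N) := fun N hN =>
    (Φ.counitIso.app N).inv ≫ Φ.functor.map (a N hN) ≫ (Φ.counitIso.app N).hom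
  obtain ⟨t, ht, huniq⟩ := existsUnique_center h.compact_right z (fun N N' hN hN' g => by
    have h1 : a N hN ≫ Φ.inverse.map g = Φ.inverse.map g ≫ a N' hN' :=
      (ha N hN).natural hU (hclosed N' hN') (ha N' hN') _
    have h2 := congrArg Φ.functor.map h1
    rw [Functor.map_comp, Functor.map_comp] at h2
    have n1 : (Φ.counitIso.app N).hom ≫ g = Φ.functor.map (Φ.inverse.map g) ≫ (Φ.counitIso.app N').hom :=
      (Φ.counitIso.hom.naturality g).symm
    have n2 : g ≫ (Φ.counitIso.app N').inv = (Φ.counitIso.app N).inv ≫ Φ.functor.map (Φ.inverse.map g) :=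
      Φ.counitIso.inv.naturality g
    simp only [z, Category.assoc]
    rw [n1, reassoc_of% h2, reassoc_of% n2])
  refine ⟨t, fun M hM e he => ?_, fun t' ht' => huniq t' fun N hN => ?_⟩
  · have hN := h.closed_map hM
    have h1 : e ≫ Φ.unit.app M = Φ.unit.app M ≫ a _ hN :=
      he.natural hU (h.symm.closed_map hN) (ha _ hN) _
    have h2 := congrArg Φ.functor.map h1
    rw [Functor.map_comp, Functor.map_comp] at h2
    have h3 : z _ hN = Φ.functor.map e := by
      have inv_eq : (Φ.counitIso.app (Φ.functor.obj M)).inv = Φ.functor.map (Φ.unit.app M) :=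
        Φ.counitInv_app_functor M
      simp only [z, inv_eq]
      rw [← Category.assoc, ← h2, Category.assoc]
      exact (congrArg (Φ.functor.map e ≫ ·) (Φ.functor_unit_comp M)).trans (Category.comp_id _)
    exact h3 ▸ ht _ hN
  · exact (ht' _ (h.symm.closed_map hN) _ (ha N hN)).of_iso (Φ.counitIso.app N)

/-- The function corresponding to a function. -/
def Matched.fn (s : Γ(X, U)) : Γ(Y, V) := (h.existsUnique_carries s).choose

theorem Matched.carries_fn (s : Γ(X, U)) : Carries Φ U V s (h.fn s) := (h.existsUnique_carries s).choose_spec.1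

theorem Matched.fn_eq {s : Γ(X, U)} {t : Γ(Y, V)} (hst : Carries Φ U V s t) : h.fn s = t :=
  ((h.existsUnique_carries s).choose_spec.2 t hst).symm

/-- The correspondence of functions, as an isomorphism of rings. -/
def Matched.ringEquiv : Γ(X, U) ≃+* Γ(Y, V) where
  toFun := h.fn
  invFun := h.symm.fn
  left_inv s := by
    refine (eq_of_forall_actsBy h.compact_left fun M hM e he => ?_).symm
    have h1 := (h.symm.carries_fn _ _ (h.closed_map hM) _ (h.carries_fn s M hM e he)).of_iso (Φ.unitIso.app M).symm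
    have h2 : (Φ.unitIso.app M).symm.inv ≫ Φ.symm.functor.map (Φ.functor.map e) ≫ (Φ.unitIso.app M).symm.hom = e := by
      simp
    exact h2 ▸ h1
  right_inv t := by
    refine (eq_of_forall_actsBy h.compact_right fun N hN e he => ?_).symm
    have h1 := (h.carries_fn _ _ (h.symm.closed_map hN) _ (h.symm.carries_fn t N hN e he)).of_iso (Φ.counitIso.app N)
    have h2 : (Φ.counitIso.app N).inv ≫ Φ.functor.map (Φ.symm.functor.map e) ≫ (Φ.counitIso.app N).hom = e := by
      simp
    exact h2 ▸ h1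
  map_mul' s s' := by
    refine h.fn_eq fun M hM e he => ?_
    obtain ⟨e₁, he₁⟩ := exists_actsBy h.compact_left hM s
    obtain ⟨e₂, he₂⟩ := exists_actsBy h.compact_left hM s'
    rw [he.unique h.compact_left hM (he₁.comp he₂), Functor.map_comp]
    exact (h.carries_fn s M hM e₁ he₁).comp (h.carries_fn s' M hM e₂ he₂)
  map_add' s s' := by
    refine h.fn_eq fun M hM e he => ?_
    obtain ⟨e₁, he₁⟩ := exists_actsBy h.compact_left hM s
    obtain ⟨e₂, he₂⟩ := exists_actsBy h.compact_left hM s'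
    haveI : Φ.functor.Additive := Functor.additive_of_preserves_binary_products _
    rw [he.unique h.compact_left hM (he₁.add he₂), Functor.map_add]
    exact (h.carries_fn s M hM e₁ he₁).add (h.carries_fn s' M hM e₂ he₂)

theorem Matched.fn_restrict {U' : X.Opens} {V' : Y.Opens} (h' : Matched Φ U' V') (hU : U' ≤ U) (hV : V' ≤ V)
    (s : Γ(X, U)) : h'.fn (X.presheaf.map (homOfLE hU).op s) = Y.presheaf.map (homOfLE hV).op (h.fn s) := by
  refine h'.fn_eq fun M hM e he => ?_
  have hM' : Closed U M := Closed.mono hU hM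
  obtain ⟨e', he'⟩ := exists_actsBy h.compact_left hM' s
  rw [he.unique h'.compact_left hM (he'.restrict hU)]
  exact (h.carries_fn s M hM' e' he').restrict hV

end GrothLib.GabRos20
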