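import Groth.Agent.Lib.GabRos20.Matched
import Mathlib.Topology.Sheaves.SheafCondition.Sites
import Mathlib.Topology.Sheaves.Functors

/-!
# The isomorphism of schemes of an equivalence of quasi-coherent modules
-/

set_option autoImplicit false
set_option linter.style.haveILetI false
set_option linter.style.longLine false
set_option linter.unusedSectionVars false
set_option maxHeartbeats 1000000
set_option backward.isDefEq.respectTransparency.types false

universe u

open CategoryTheory CategoryTheory.Limits AlgebraicGeometry Opposite TopologicalSpace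

noncomputable section

namespace GrothLib.GabRos20

variable {X Y : Scheme.{u}} [CompactSpace X] [QuasiSeparatedSpace X] [CompactSpace Y] [QuasiSeparatedSpace Y]
  (Φ : QCohCat.QCoh X ≌ QCohCat.QCoh Y)

theorem exists_iso_app : ∃ g : X ≅ Y, ∀ (V : Y.Opens), IsCompact (V : Set Y) →
    Matched Φ (g.hom ⁻¹ᵁ V) V ∧ ∀ t : Γ(Y, V), Carries Φ (g.hom ⁻¹ᵁ V) V (g.hom.app V t) t := by
  obtain ⟨e, he⟩ := exists_homeo Φ
  let H : X.toPresheafedSpace.carrier ≅ Y.toPresheafedSpace.carrier := TopCat.isoOfHomeo e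
  let B : QC Y → Y.Opens := fun V => V.1
  have hB : Opens.IsBasis (Set.range B) := by
    have : Set.range B = {U : Y.Opens | IsCompact (U : Set Y)} := Subtype.range_val
    rw [this]
    exact isBasis_compact Y
  let F : TopCat.Presheaf CommRingCat Y.toPresheafedSpace.carrier := H.hom _* X.presheaf
  have hm : ∀ V : QC Y, Matched Φ ((Opens.map H.hom).obj V.1) V.1 := fun V => he V.1 V.2
  let a : ∀ V : QC Y, F.obj (op (B V)) ⟶ Y.presheaf.obj (op (B V)) := fun V =>
    CommRingCat.ofHom (hm V).ringEquiv.toRingHom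
  let η : (inducedFunctor B).op ⋙ F ⟶ (inducedFunctor B).op ⋙ Y.sheaf.obj :=
    { app := fun i => a i.unop
      naturality := fun i j φ => by
        ext s
        exact (hm i.unop).fn_restrict (hm j.unop) ((Opens.map H.hom).monotone (leOfHom φ.unop.hom))
          (leOfHom φ.unop.hom) s }
  let F' : TopCat.Sheaf CommRingCat Y.toPresheafedSpace.carrier := (TopCat.Sheaf.pushforward CommRingCat H.hom).obj X.sheaf
  let c : F' ⟶ Y.sheaf := ⟨TopCat.Sheaf.restrictHomEquivHom F Y.sheaf hB η⟩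
  have hc : ∀ V : QC Y, c.hom.app (op (B V)) = a V := fun V => TopCat.Sheaf.extend_hom_app F Y.sheaf hB η V
  haveI : IsIso c := TopCat.Sheaf.isIso_iff_isIso_basis hB (φ := c) fun V => by
    rw [hc V]
    exact (hm V).ringEquiv.toCommRingCatIso.isIso_hom
  let α : H.hom _* X.presheaf ≅ Y.presheaf :=
    (TopCat.Sheaf.forget CommRingCat Y.toPresheafedSpace.carrier).mapIso (asIso c)
  let L : X.toLocallyRingedSpace ≅ Y.toLocallyRingedSpace :=
    LocallyRingedSpace.isoOfSheafedSpaceIso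
      (SheafedSpace.isoMk (PresheafedSpace.isoOfComponents (X := X.toPresheafedSpace) H α))
  let g : X ≅ Y := Scheme.fullyFaithfulForgetToLocallyRingedSpace.preimageIso L
  refine ⟨g, fun V hV => ⟨hm ⟨V, hV⟩, fun t => ?_⟩⟩
  have h1 : g.hom.app V t = (hm ⟨V, hV⟩).ringEquiv.symm t := by
    apply (hm ⟨V, hV⟩).ringEquiv.injective
    rw [RingEquiv.apply_symm_apply]
    have h2 := congr($(hc ⟨V, hV⟩) (α.inv.app (op V) t))
    exact h2.symm.trans (ConcreteCategory.congr_hom (α.inv_hom_id_app (op V)) t)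
  rw [h1]
  have h3 := (hm ⟨V, hV⟩).carries_fn ((hm ⟨V, hV⟩).ringEquiv.symm t)
  rwa [show (hm ⟨V, hV⟩).fn ((hm ⟨V, hV⟩).ringEquiv.symm t) = t from (hm ⟨V, hV⟩).ringEquiv.apply_symm_apply t] at h3

/-- The isomorphism of schemes of an equivalence, with the correspondence of opens and functions. -/
theorem exists_iso : ∃ f : Y ≅ X, ∀ (U : X.Opens), IsCompact (U : Set X) →
    Matched Φ U (f.hom ⁻¹ᵁ U) ∧ ∀ s : Γ(X, U), Carries Φ U (f.hom ⁻¹ᵁ U) s (f.hom.app U s) := by
  obtain ⟨g, hg⟩ := exists_iso_app Φ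
  refine ⟨g.symm, fun U hU => ?_⟩
  have hV : IsCompact ((g.inv ⁻¹ᵁ U : Y.Opens) : Set Y) := by
    haveI : IsIso g.inv := inferInstance
    exact QuasiCompact.isCompact_preimage _ U.isOpen hU
  have heq : g.hom ⁻¹ᵁ g.inv ⁻¹ᵁ U = U := by
    rw [← Scheme.Hom.comp_preimage, g.hom_inv_id, Scheme.Hom.id_preimage]
  obtain ⟨h1, h2⟩ := hg _ hV
  have key₁ : ∀ {U' : X.Opens} (h : U' = U), Matched Φ U' (g.inv ⁻¹ᵁ U) → Matched Φ U (g.inv ⁻¹ᵁ U) := fun h hh => by
    subst h
    exact hh
  refine ⟨key₁ heq h1, fun s => ?_⟩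
  have h3 : g.hom.app (g.inv ⁻¹ᵁ U) (g.inv.app U s) = X.presheaf.map (eqToHom heq).op s := by
    have h4 := Scheme.Hom.congr_app g.hom_inv_id U
    rw [Scheme.Hom.comp_app, Scheme.Hom.id_app] at h4
    exact ConcreteCategory.congr_hom h4 s
  have h5 := h2 (g.inv.app U s)
  rw [h3] at h5
  have key : ∀ {U' : X.Opens} (h : U' = U), Carries Φ U' (g.inv ⁻¹ᵁ U) (X.presheaf.map (eqToHom h).op s) (g.inv.app U s) →
      Carries Φ U (g.inv ⁻¹ᵁ U) s (g.inv.app U s) := by
    intro U' h hh
    subst h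
    simpa using hh
  exact key heq h5

end GrothLib.GabRos20
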